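import Cfsg.Prelude.Def_Transfer
import Cfsg.Agent.S3741

/-! Extraspecial groups and p-groups with a subgroup of index p (helper20). -/

set_option autoImplicit false

namespace Cfsg.Agent.H20

open Subgroup

variable {S : Type*} [Group S]

theorem normal_of_index_eq_prime [Finite S] {p : ℕ} [hp : Fact p.Prime] (hS : IsPGroup p S)
    (Q : Subgroup S) (hQ : Q.index = p) : Q.Normal := by
  apply Subgroup.normal_of_index_eq_minFac_card
  obtain ⟨n, hn⟩ := IsPGroup.iff_card.1 hS
  rw [hQ, hn]
  have hn0 : n ≠ 0 := by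
    rintro rfl
    have h1 : Nat.card S = 1 := by simpa using hn
    have h2 : Q.index ∣ Nat.card S := Q.index_dvd_card
    rw [hQ, h1] at h2
    exact hp.out.one_lt.ne' (Nat.dvd_one.1 h2)
  rw [Nat.Prime.pow_minFac hp.out hn0]

/-- a normal subgroup of order at most `p` in a finite `p`-group is central. -/
theorem le_center_of_normal_of_card_le [Finite S] {p : ℕ} [Fact p.Prime] (hS : IsPGroup p S)
    (Z : Subgroup S) [hZ : Z.Normal] (hc : Nat.card Z ≤ p) : Z ≤ center S := by
  have h1 := Cfsg.Agent.S3741.normalizer_le_centralizer_of_card_le hS Z hc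
  rw [normalizer_eq_top_iff.2 hZ] at h1
  intro z hz
  rw [mem_center_iff]
  intro g
  exact ((mem_centralizer_iff.1 (h1 (mem_top g))) z hz).symm

/-- the centre of a normal subgroup is normal. -/
theorem center_map_normal (Q : Subgroup S) [hQ : Q.Normal] : ((center Q).map Q.subtype).Normal := by
  constructor
  rintro _ ⟨z, hz, rfl⟩ s
  refine ⟨⟨s * z * s⁻¹, hQ.conj_mem _ z.2 s⟩, ?_, rfl⟩
  rw [SetLike.mem_coe, mem_center_iff]
  intro q
  have h1 := mem_center_iff.1 hz ⟨s⁻¹ * q * s, by simpa using hQ.conj_mem _ q.2 s⁻¹⟩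
  have h2 : s⁻¹ * (q:S) * s * z = z * (s⁻¹ * q * s) := congrArg Subtype.val h1
  ext
  change (q : S) * (s * z * s⁻¹) = s * z * s⁻¹ * q
  calc (q : S) * (s * z * s⁻¹) = s * (s⁻¹ * q * s * z) * s⁻¹ := by group
    _ = s * (z * (s⁻¹ * q * s)) * s⁻¹ := by rw [h2]
    _ = _ := by group

theorem center_inf_le (Q : Subgroup S) : center S ⊓ Q ≤ (center Q).map Q.subtype := by
  intro x hx
  refine ⟨⟨x, hx.2⟩, ?_, rfl⟩
  rw [SetLike.mem_coe, mem_center_iff]
  intro q
  ext
  exact mem_center_iff.1 hx.1 q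

theorem card_center_map (Q : Subgroup S) :
    Nat.card ((center Q).map Q.subtype) = Nat.card (center Q) :=
  Nat.card_congr ((center Q).equivMapOfInjective _ Q.subtype_injective).symm.toEquiv

theorem sup_eq_top_of_index_prime [Finite S] {p : ℕ} [hp : Fact p.Prime] (Q K : Subgroup S)
    (hQ : Q.index = p) (hK : ¬ K ≤ Q) : Q ⊔ K = ⊤ := by
  have h1 : (Q ⊔ K).index ∣ p := hQ ▸ Subgroup.index_dvd_of_le le_sup_left
  rcases (Nat.dvd_prime hp.out).1 h1 with h | h
  · exact Subgroup.index_eq_one.1 h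
  · exfalso
    apply hK
    have h2 : Q = Q ⊔ K := by
      apply Subgroup.eq_of_le_of_card_ge le_sup_left
      have a := Q.card_mul_index
      have b := (Q ⊔ K).card_mul_index
      rw [hQ] at a
      rw [h] at b
      have : Nat.card (Q ⊔ K : Subgroup S) * p = Nat.card Q * p := by rw [a, b]
      exact (Nat.eq_of_mul_eq_mul_right hp.out.pos this).le
    rw [h2]; exact le_sup_right

end Cfsg.Agent.H20
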