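import Cfsg.Agent.H20.Extra
import Cfsg.Agent.H20.Sn

/-! Groups with central commutator subgroup of prime order: `|H : Z(H)|` is an even power of `p`
(helper20). -/

set_option autoImplicit false

namespace Cfsg.Agent.H20

open Subgroup Cfsg.Agent.S3741

variable {P : Type*} [Group P]

theorem commHom_eq_one_iff (B Z : Subgroup P) (a : P) (h1 : ∀ b ∈ B, a * b * a⁻¹ * b⁻¹ ∈ Z)
    (h2 : ∀ z ∈ Z, ∀ b ∈ B, z * b = b * z) (b : B) :
    commHom B Z a h1 h2 b = 1 ↔ a * (b : P) = b * a := by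
  constructor
  · intro h
    have : a * (b:P) * a⁻¹ * (b:P)⁻¹ = 1 := congrArg Subtype.val h
    calc a * (b:P) = (a * (b:P) * a⁻¹ * (b:P)⁻¹) * (b * a) := by group
      _ = b * a := by rw [this, one_mul]
  · intro h
    ext
    change a * (b:P) * a⁻¹ * (b:P)⁻¹ = 1
    rw [h]; group

theorem card_inf_centralizer_singleton (B : Subgroup P) (a : P) :
    Nat.card {b : B // a * (b : P) = b * a} = Nat.card ↥(B ⊓ centralizer {a}) := by
  apply Nat.card_congr
  exact
    { toFun := fun x => ⟨x.1.1, mem_inf.2 ⟨x.1.2, by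
        rw [mem_centralizer_singleton_iff]; exact x.2.symm⟩⟩
      invFun := fun x => ⟨⟨x.1, (mem_inf.1 x.2).1⟩, by
        have := (mem_inf.1 x.2).2
        rw [mem_centralizer_singleton_iff] at this
        exact this.symm⟩
      left_inv := fun x => rfl
      right_inv := fun x => rfl }

/-- index `p` of the centralizer of a noncentral element. -/
theorem card_inf_centralizer [Finite P] {p : ℕ} [Fact p.Prime] (Z : Subgroup P) (hZ : Nat.card Z = p)
    (hZc : Z ≤ center P) (hcomm : ∀ a b : P, a * b * a⁻¹ * b⁻¹ ∈ Z) (B : Subgroup P) (a : P)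
    (ha : a ∉ centralizer (B : Set P)) :
    p * Nat.card ↥(B ⊓ centralizer {a}) = Nat.card B := by
  rw [← card_inf_centralizer_singleton]
  exact card_cent B Z hZ a (fun b _ => hcomm a b)
    (fun z hz b _ => ((mem_center_iff.1 (hZc hz)) b).symm) ha

theorem card_eq_pow_mul_card_center_aux [Finite P] {p : ℕ} [hp : Fact p.Prime] (Z : Subgroup P)
    (hZ : Nat.card Z = p) (hZc : Z ≤ center P) (hcomm : ∀ a b : P, a * b * a⁻¹ * b⁻¹ ∈ Z) (n : ℕ) :
    ∀ H : Subgroup P, Nat.card H ≤ n →
      ∃ k, Nat.card H = p ^ (2 * k) * Nat.card ↥(H ⊓ centralizer (H : Set P)) := by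
  induction n with
  | zero =>
    intro H hH
    exact absurd hH (by have : 0 < Nat.card H := Nat.card_pos; omega)
  | succ n ih =>
    intro H hH
    by_cases hab : H ≤ centralizer (H : Set P)
    · exact ⟨0, by rw [inf_eq_left.2 hab]; simp⟩
    obtain ⟨x, hxH, hxc⟩ := SetLike.not_le_iff_exists.1 hab
    have hxc' := hxc
    rw [mem_centralizer_iff] at hxc'
    push Not at hxc'
    obtain ⟨y, hyH, hxy⟩ := hxc'
    have hyH : y ∈ H := hyH
    set Hx := H ⊓ centralizer {x} with hHx
    set H1 := Hx ⊓ centralizer {y} with hH1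
    have c1 := card_inf_centralizer Z hZ hZc hcomm H x hxc
    have hxHx : x ∈ Hx := mem_inf.2 ⟨hxH, by rw [mem_centralizer_singleton_iff]⟩
    have hyc : y ∉ centralizer (Hx : Set P) := by
      intro h
      exact hxy ((mem_centralizer_iff.1 h) x hxHx).symm
    have c2 := card_inf_centralizer Z hZ hZc hcomm Hx y hyc
    rw [← hHx] at c1
    rw [← hH1] at c2
    have hp2 : 2 ≤ p := hp.out.two_le
    have hpos : 0 < Nat.card H1 := Nat.card_pos
    have hlt : Nat.card H1 ≤ n := by
      have : Nat.card H = p * (p * Nat.card H1) := by rw [c2, c1]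
      have h4 : 4 * Nat.card H1 ≤ p * (p * Nat.card H1) := by
        calc 4 * Nat.card H1 = 2 * (2 * Nat.card H1) := by ring
          _ ≤ p * (p * Nat.card H1) := by gcongr
      omega
    obtain ⟨k, hk⟩ := ih H1 hlt
    have hH1H : H1 ≤ H := inf_le_left.trans inf_le_left
    have hmem1 : ∀ h : P, h ∈ H1 ↔ h ∈ H ∧ h * x = x * h ∧ h * y = y * h := by
      intro h
      simp only [hH1, hHx, mem_inf, mem_centralizer_singleton_iff, and_assoc]
    -- the two homomorphisms
    have hz2 : ∀ z ∈ Z, ∀ b ∈ H, z * b = b * z := fun z hz b _ => ((mem_center_iff.1 (hZc hz)) b).symm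
    set κx := commHom H Z x (fun b _ => hcomm x b) hz2 with hκx
    set κy := commHom H Z y (fun b _ => hcomm y b) hz2 with hκy
    have hκx1 : ∀ b : H, κx b = 1 ↔ x * (b : P) = b * x := commHom_eq_one_iff _ _ _ _ _
    have hκy1 : ∀ b : H, κy b = 1 ↔ y * (b : P) = b * y := commHom_eq_one_iff _ _ _ _ _
    set X : H := ⟨x, hxH⟩ with hX
    set Y : H := ⟨y, hyH⟩ with hY
    have hxx : κx X = 1 := (hκx1 X).2 rfl
    have hyy : κy Y = 1 := (hκy1 Y).2 rfl
    have hc1 : κx Y ≠ 1 := fun h => hxy ((hκx1 Y).1 h).symm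
    have hc2 : κy X ≠ 1 := fun h => hxy ((hκy1 X).1 h)
    have key : ∀ h : H, ∃ i j : ℤ, (h * X ^ i * Y ^ j : H).1 ∈ H1 := by
      intro h
      obtain ⟨i, hi⟩ := mem_zpowers_iff.1 (mem_zpowers_of_prime_card hZ hc2 (g' := (κy h)⁻¹))
      obtain ⟨j, hj⟩ := mem_zpowers_iff.1 (mem_zpowers_of_prime_card hZ hc1 (g' := (κx h)⁻¹))
      refine ⟨i, j, ?_⟩
      rw [hmem1]
      refine ⟨(h * X ^ i * Y ^ j : H).2, ?_, ?_⟩
      · refine ((hκx1 _).1 ?_).symm
        rw [map_mul, map_mul, map_zpow, map_zpow, hxx, hj]; simp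
      · refine ((hκy1 _).1 ?_).symm
        rw [map_mul, map_mul, map_zpow, map_zpow, hyy, hi]; simp
    have hcen : H1 ⊓ centralizer (H1 : Set P) = H ⊓ centralizer (H : Set P) := by
      apply le_antisymm
      · intro z hz
        refine mem_inf.2 ⟨hH1H hz.1, ?_⟩
        rw [mem_centralizer_iff]
        intro h hh
        obtain ⟨i, j, hij⟩ := key ⟨h, hh⟩
        have hzx := ((hmem1 z).1 hz.1).2.1
        have hzy := ((hmem1 z).1 hz.1).2.2
        have e1 := (mem_centralizer_iff.1 hz.2) _ hij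
        have e1' : (h * x ^ i * y ^ j) * z = z * (h * x ^ i * y ^ j) := by
          simpa using e1
        have cx : Commute z (x ^ i) := (show Commute z x from hzx).zpow_right i
        have cy : Commute z (y ^ j) := (show Commute z y from hzy).zpow_right j
        have c3 : Commute z (h * x ^ i * y ^ j) := e1'.symm
        have c4 : Commute z (h * x ^ i * y ^ j * (y ^ j)⁻¹ * (x ^ i)⁻¹) :=
          (c3.mul_right cy.inv_right).mul_right cx.inv_right
        have : h * x ^ i * y ^ j * (y ^ j)⁻¹ * (x ^ i)⁻¹ = h := by group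
        rw [this] at c4
        exact c4.symm
      · intro z hz
        have hzc := mem_centralizer_iff.1 hz.2
        refine ⟨(hmem1 z).2 ⟨hz.1, (hzc x hxH).symm, (hzc y hyH).symm⟩, ?_⟩
        exact centralizer_le hH1H hz.2
    refine ⟨k + 1, ?_⟩
    rw [← hcen, ← c1, ← c2, hk]
    ring

/-- If `[P,P] ≤ Z ≤ Z(P)` with `|Z| = p`, then `|H : Z(H)|` is an even power of `p` for all `H ≤ P`. -/
theorem card_eq_pow_mul_card_center [Finite P] {p : ℕ} [Fact p.Prime] (Z : Subgroup P)
    (hZ : Nat.card Z = p) (hZc : Z ≤ center P) (hcomm : ∀ a b : P, a * b * a⁻¹ * b⁻¹ ∈ Z)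
    (H : Subgroup P) : ∃ k, Nat.card H = p ^ (2 * k) * Nat.card ↥(H ⊓ centralizer (H : Set P)) :=
  card_eq_pow_mul_card_center_aux Z hZ hZc hcomm _ H le_rfl

end Cfsg.Agent.H20
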