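import Cfsg.Agent.H20.Extra2

/-! More on extraspecial groups (helper20). -/

set_option autoImplicit false

namespace Cfsg.Agent.H20

open Subgroup Cfsg.Agent.S3741

variable {P : Type*} [Group P]

theorem IsExtraspecial.comm_mem_center {p : ℕ} (h : Cfsg.IsExtraspecial p P) (a b : P) :
    a * b * a⁻¹ * b⁻¹ ∈ center P := by
  rw [← h.1.2.2]
  exact Subgroup.commutator_mem_commutator (mem_top a) (mem_top b)

/-- `p`-th powers are central when `[P,P] ≤ Z ≤ Z(P)`, `|Z| = p`. -/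
theorem pow_mem_center_of_comm {p : ℕ} (Z : Subgroup P) (hZ : Nat.card Z = p)
    (hZc : Z ≤ center P) (hcomm : ∀ a b : P, a * b * a⁻¹ * b⁻¹ ∈ Z) (b : P) : b ^ p ∈ center P := by
  rw [mem_center_iff]
  intro a
  have hz2 : ∀ z ∈ Z, ∀ b ∈ (⊤ : Subgroup P), z * b = b * z :=
    fun z hz b _ => ((mem_center_iff.1 (hZc hz)) b).symm
  have h1 := commHom_eq_one_iff ⊤ Z a (fun b _ => hcomm a b) hz2 (⟨b, mem_top b⟩ ^ p)
  have h2 : commHom ⊤ Z a (fun b _ => hcomm a b) hz2 (⟨b, mem_top b⟩ ^ p) = 1 := by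
    rw [map_pow, ← hZ]
    exact pow_card_eq_one'
  exact h1.1 h2

theorem IsExtraspecial.pow_mem_center {p : ℕ} (h : Cfsg.IsExtraspecial p P) (b : P) :
    b ^ p ∈ center P :=
  pow_mem_center_of_comm (center P) h.2 le_rfl (IsExtraspecial.comm_mem_center h) b

theorem IsExtraspecial.pow_sq_eq_one {p : ℕ} (h : Cfsg.IsExtraspecial p P) (b : P) :
    b ^ (p ^ 2) = 1 := by
  have h1 := IsExtraspecial.pow_mem_center h b
  have h2 : (⟨b ^ p, h1⟩ : center P) ^ p = 1 := by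
    have := pow_card_eq_one' (x := (⟨b ^ p, h1⟩ : center P))
    rwa [h.2] at this
  have h3 : (b ^ p) ^ p = 1 := congrArg Subtype.val h2
  rw [sq, pow_mul]; exact h3

theorem commutator_le_of_index_prime [Finite P] {p : ℕ} [hp : Fact p.Prime] (Q : Subgroup P)
    [hQ : Q.Normal] (hQi : Q.index = p) : commutator P ≤ Q := by
  have hc : Nat.card (P ⧸ Q) = p := hQi
  have : IsCyclic (P ⧸ Q) := isCyclic_of_prime_card hc
  rw [← Subgroup.Normal.quotient_commutative_iff_commutator_le]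
  exact ⟨⟨fun a b => (IsCyclic.commGroup (α := P ⧸ Q)).mul_comm a b⟩⟩

end Cfsg.Agent.H20
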