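import Cfsg.Agent.H20.Extra3

/-! Abelian subgroups of index `p` (helper20). -/

set_option autoImplicit false

namespace Cfsg.Agent.H20

open Subgroup Cfsg.Agent.S3741

variable {S : Type*} [Group S]

/-- in a finite `p`-group, a proper inclusion multiplies the order by at least `p`. -/
theorem mul_card_le_of_lt [Finite S] {p : ℕ} [hp : Fact p.Prime] (hS : IsPGroup p S)
    {N M : Subgroup S} (h : N < M) : p * Nat.card N ≤ Nat.card M := by
  have h1 := card_mul_relIndex h.le
  have h2 : N.relIndex M ≠ 1 := fun h3 => h.not_ge (relIndex_eq_one.1 h3)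
  obtain ⟨n, hn⟩ := IsPGroup.iff_card.1 (hS.to_subgroup M)
  have h3 : N.relIndex M ∣ p ^ n := hn ▸ (Dvd.intro_left _ h1)
  obtain ⟨k, _, hk⟩ := (Nat.dvd_prime_pow hp.out).1 h3
  have hk0 : k ≠ 0 := by rintro rfl; exact h2 (by simpa using hk)
  have h4 : p ≤ N.relIndex M := by
    rw [hk]; exact Nat.le_self_pow hk0 p
  calc p * Nat.card N ≤ N.relIndex M * Nat.card N := Nat.mul_le_mul_right _ h4
    _ = Nat.card M := by rw [mul_comm, h1]

/-- `A / N` of order at most `p` with `N` central in `A` forces `A` abelian. -/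
theorem le_centralizer_self_of_central [Finite S] {p : ℕ} [hp : Fact p.Prime] (hS : IsPGroup p S)
    (A N : Subgroup S) (hNA : N ≤ A) (hNc : A ≤ centralizer (N : Set S))
    (hcard : Nat.card A ≤ p * Nat.card N) : A ≤ centralizer (A : Set S) := by
  by_contra hcon
  obtain ⟨y, hyA, hyc⟩ := SetLike.not_le_iff_exists.1 hcon
  have hNc' : N ≤ centralizer (A : Set S) := le_centralizer_iff.1 hNc
  have hyN : y ∉ N := fun h => hyc (hNc' h)
  have hlt : N < N ⊔ zpowers y := by
    refine lt_of_le_of_ne le_sup_left ?_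
    intro h
    apply hyN
    rw [h]
    exact le_sup_right (a := N) (mem_zpowers y)
  have hMA : N ⊔ zpowers y ≤ A := sup_le hNA (zpowers_le.2 hyA)
  have h1 := mul_card_le_of_lt hS hlt
  have hM : N ⊔ zpowers y = A := Subgroup.eq_of_le_of_card_ge hMA (hcard.trans h1)
  apply hyc
  rw [← hM]
  have h2 : N ⊔ zpowers y ≤ centralizer {y} := by
    apply sup_le
    · intro n hn
      rw [mem_centralizer_singleton_iff]
      exact ((mem_centralizer_iff.1 (hNc hyA)) n hn)
    · rw [zpowers_le, mem_centralizer_singleton_iff]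
  rw [mem_centralizer_iff]
  intro m hm
  exact mem_centralizer_singleton_iff.1 (h2 hm)

/-- an extraspecial group with an abelian subgroup of index `p` has order at most `p ^ 3`. -/
theorem IsExtraspecial.card_le_of_abelian_index [Finite S] {p : ℕ} [hp : Fact p.Prime]
    (h : Cfsg.IsExtraspecial p S) (B : Subgroup S) (hB : B ≤ centralizer (B : Set S))
    (hBi : B.index = p) : Nat.card S ≤ p ^ 3 := by
  have hne : B ≠ ⊤ := by
    intro h1
    rw [h1, index_top] at hBi
    exact hp.out.one_lt.ne hBi
  obtain ⟨x, -, hx⟩ := SetLike.exists_of_lt (lt_top_iff_ne_top.2 hne)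
  have htop : B ⊔ zpowers x = ⊤ :=
    sup_eq_top_of_index_prime B (zpowers x) hBi (fun h1 => hx (h1 (mem_zpowers x)))
  have hle : B ⊓ centralizer {x} ≤ center S := by
    intro z hz
    have h1 : B ⊔ zpowers x ≤ centralizer {z} := by
      apply sup_le
      · intro b hb
        rw [mem_centralizer_singleton_iff]
        exact ((mem_centralizer_iff.1 (hB hb)) z (mem_inf.1 hz).1).symm
      · rw [zpowers_le, mem_centralizer_singleton_iff]
        exact (mem_centralizer_singleton_iff.1 (mem_inf.1 hz).2).symm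
    rw [htop] at h1
    rw [mem_center_iff]
    intro g
    exact mem_centralizer_singleton_iff.1 (h1 (mem_top g))
  have hc1 : Nat.card ↥(B ⊓ centralizer {x}) ≤ p := h.2 ▸ Subgroup.card_le_of_le hle
  have hc2 : Nat.card B ≤ p * p := by
    by_cases hxc : x ∈ centralizer (B : Set S)
    · have : B ⊓ centralizer {x} = B := by
        rw [inf_eq_left]
        intro b hb
        rw [mem_centralizer_singleton_iff]
        exact (mem_centralizer_iff.1 hxc) b hb
      rw [this] at hc1
      exact hc1.trans (Nat.le_mul_of_pos_left _ hp.out.pos)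
    · rw [← card_inf_centralizer (center S) h.2 le_rfl (IsExtraspecial.comm_mem_center h) B x hxc]
      exact Nat.mul_le_mul_left _ hc1
  rw [← B.card_mul_index, hBi]
  calc Nat.card B * p ≤ p * p * p := Nat.mul_le_mul_right _ hc2
    _ = p ^ 3 := by ring

theorem IsExtraspecial.not_abelian {p : ℕ} [hp : Fact p.Prime] (h : Cfsg.IsExtraspecial p S) :
    ¬ ∀ a b : S, a * b = b * a := by
  intro hab
  have h4 : commutator S = ⊥ := by
    rw [commutator_def, commutator_eq_bot_iff_le_centralizer]
    intro a _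
    rw [mem_centralizer_iff]
    intro b _
    exact hab b a
  have h5 := h.2
  rw [← h.1.2.2, h4] at h5
  simp at h5
  exact hp.out.one_lt.ne h5

/-- a `p`-group `S` with a central subgroup `Z ≠ S` has an element outside `Z` which is central modulo `Z`. -/
theorem exists_central_mod [Finite S] {p : ℕ} [hp : Fact p.Prime] (hS : IsPGroup p S)
    (Z : Subgroup S) [Z.Normal] (hZ : Z ≠ ⊤) : ∃ a : S, a ∉ Z ∧ ∀ s : S, a * s * a⁻¹ * s⁻¹ ∈ Z := by
  have hnt : Nontrivial (S ⧸ Z) := by
    rw [← Finite.one_lt_card_iff_nontrivial]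
    have h1 : Nat.card (S ⧸ Z) = Z.index := rfl
    have h2 : Z.index ≠ 1 := fun h => hZ (index_eq_one.1 h)
    have h3 : Z.index ≠ 0 := Z.index_ne_zero_of_finite
    omega
  have := (hS.to_quotient Z).center_nontrivial
  obtain ⟨⟨c, hc⟩, hc1⟩ := exists_ne (1 : center (S ⧸ Z))
  obtain ⟨a, rfl⟩ := QuotientGroup.mk_surjective c
  refine ⟨a, ?_, ?_⟩
  · intro ha
    apply hc1
    ext
    exact (QuotientGroup.eq_one_iff a).2 ha
  · intro s
    rw [← QuotientGroup.eq_one_iff]
    have := mem_center_iff.1 hc (s : S ⧸ Z)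
    rw [QuotientGroup.mk_mul, QuotientGroup.mk_mul, QuotientGroup.mk_mul, ← this,
      QuotientGroup.mk_inv, QuotientGroup.mk_inv]
    group

end Cfsg.Agent.H20
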