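import Mathlib

/-!
# Irreducible action of an element of prime order on an elementary abelian group
-/

set_option autoImplicit false

namespace Cfsg.Agent.H20

open Polynomial

theorem card_le_of_forall_pow_eq {K : Type*} [CommRing K] [IsDomain K] [Finite K] {q e : ℕ} (he : e ≠ 0)
    (hq : 1 < q) (h : ∀ k : K, k ^ (q ^ e) = k) : Nat.card K ≤ q ^ e := by
  classical
  have := Fintype.ofFinite K
  have hn : 1 < q ^ e := Nat.one_lt_pow he hq
  have hdeg : (X ^ (q ^ e) - X : K[X]).natDegree = q ^ e := by
    have h1 : (X : K[X]).degree < (X ^ (q ^ e) : K[X]).degree := by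
      rw [degree_X_pow, degree_X]
      exact mod_cast hn
    rw [natDegree_eq_of_degree_eq (degree_sub_eq_left_of_degree_lt h1), natDegree_X_pow]
  have hne : (X ^ (q ^ e) - X : K[X]) ≠ 0 := ne_zero_of_natDegree_gt (n := 1) (by rw [hdeg]; exact hn)
  have h1 := Polynomial.card_le_degree_of_subset_roots (p := (X ^ (q ^ e) - X : K[X])) (Z := Finset.univ) (by
    intro k _
    rw [mem_roots hne, IsRoot.def]
    simp [h k])
  rw [hdeg, Finset.card_univ, ← Nat.card_eq_fintype_card] at h1
  exact h1

/-- Linear core: an endomorphism `T` of a finite `𝔽_q`-space with `T ^ (q ^ e) = T` and no proper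
nonzero invariant subspace lives on a space with at most `q ^ e` elements. -/
theorem card_le_of_irreducible_end {q e : ℕ} [hq : Fact q.Prime] (he : e ≠ 0) {V : Type*} [AddCommGroup V]
    [Module (ZMod q) V] [Finite V] (T : Module.End (ZMod q) V) (hT : T ^ (q ^ e) = T)
    (hirr : ∀ W : Submodule (ZMod q) V, (∀ w ∈ W, T w ∈ W) → W = ⊥ ∨ W = ⊤) : Nat.card V ≤ q ^ e := by
  classical
  rcases subsingleton_or_nontrivial V with hV | hV
  · rw [Nat.card_eq_one_iff_unique.mpr ⟨hV, ⟨0⟩⟩]
    exact Nat.one_le_pow _ _ hq.out.pos
  obtain ⟨v, hv⟩ := exists_ne (0 : V)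
  let φ : (ZMod q)[X] →+* Module.End (ZMod q) V := (aeval T).toRingHom
  let K := (ZMod q)[X] ⧸ RingHom.ker φ
  let ι : K →+* Module.End (ZMod q) V := RingHom.kerLift φ
  have hι : Function.Injective ι := RingHom.kerLift_injective φ
  have hιmk : ∀ f : (ZMod q)[X], ι (Ideal.Quotient.mk _ f) = aeval T f := fun f => rfl
  have hιX : ι (Ideal.Quotient.mk _ X) = T := by rw [hιmk, aeval_X]
  have hcomm : ∀ k : K, ι k * T = T * ι k := by
    intro k
    rw [← hιX, ← map_mul, ← map_mul, mul_comm]
  have : Finite (Module.End (ZMod q) V) := Finite.of_injective (fun f : Module.End (ZMod q) V => (f : V → V))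
    DFunLike.coe_injective
  have : Finite K := Finite.of_injective ι hι
  have : Nontrivial K := by
    refine ⟨⟨0, 1, fun h => ?_⟩⟩
    have h1 : ι 0 = ι 1 := congrArg ι h
    rw [map_zero, map_one] at h1
    have h2 := congrArg (fun f : Module.End (ZMod q) V => f v) h1
    simp at h2
    exact hv h2.symm
  have hinj : ∀ k : K, k ≠ 0 → Function.Injective (ι k) := by
    intro k hk
    have h1 := hirr (LinearMap.ker (ι k)) (by
      intro w hw
      rw [LinearMap.mem_ker] at hw ⊢
      have h2 := congrArg (fun f : Module.End (ZMod q) V => f w) (hcomm k)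
      simp only [Module.End.mul_apply] at h2
      rw [h2, hw, map_zero])
    rcases h1 with h1 | h1
    · exact LinearMap.ker_eq_bot.mp h1
    · exfalso
      apply hk
      apply hι
      rw [map_zero]
      exact LinearMap.ker_eq_top.mp h1
  have : NoZeroDivisors K := by
    refine ⟨fun {a b} hab => ?_⟩
    by_cases ha : a = 0
    · exact Or.inl ha
    · right
      apply hι
      rw [map_zero]
      ext w
      have h1 : ι a (ι b w) = 0 := by
        have h2 := congrArg (fun f : Module.End (ZMod q) V => f w) (congrArg ι hab)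
        simpa [map_mul, Module.End.mul_apply] using h2
      have h3 := hinj a ha (h1.trans (map_zero (ι a)).symm)
      simpa using h3
  have : IsDomain K := NoZeroDivisors.to_isDomain K
  have : CharP K q := charP_of_injective_algebraMap (algebraMap (ZMod q) K).injective q
  have hfrob : ∀ k : K, k ^ (q ^ e) = k := by
    have h1 : (iterateFrobenius K q e).comp (Ideal.Quotient.mk (RingHom.ker φ)) = Ideal.Quotient.mk (RingHom.ker φ) := by
      apply Polynomial.ringHom_ext
      · intro c
        simp only [RingHom.comp_apply, iterateFrobenius_def]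
        rw [← map_pow, ← map_pow, ZMod.pow_card_pow]
      · simp only [RingHom.comp_apply, iterateFrobenius_def]
        apply hι
        rw [map_pow, hιX, hT]
    intro k
    obtain ⟨f, rfl⟩ := Ideal.Quotient.mk_surjective k
    have h2 := congrArg (fun g : (ZMod q)[X] →+* K => g f) h1
    simpa [iterateFrobenius_def] using h2
  have hcardK : Nat.card K ≤ q ^ e := card_le_of_forall_pow_eq he hq.out.one_lt hfrob
  have hsurj : Function.Surjective (fun k : K => ι k v) := by
    let L : (ZMod q)[X] →ₗ[ZMod q] V := (LinearMap.applyₗ v).comp (aeval T).toLinearMap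
    have hL : ∀ f, L f = aeval T f v := fun f => rfl
    have h1 := hirr (LinearMap.range L) (by
      rintro _ ⟨f, rfl⟩
      refine ⟨X * f, ?_⟩
      rw [hL, hL, map_mul, aeval_X, Module.End.mul_apply])
    rcases h1 with h1 | h1
    · exfalso
      apply hv
      have h2 : v ∈ LinearMap.range L := ⟨1, by rw [hL, map_one, Module.End.one_apply]⟩
      rw [h1] at h2
      exact (Submodule.mem_bot _).mp h2
    · intro w
      have h2 : w ∈ LinearMap.range L := by rw [h1]; trivial
      obtain ⟨f, rfl⟩ := h2
      exact ⟨Ideal.Quotient.mk _ f, rfl⟩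
  exact (Nat.card_le_card_of_surjective _ hsurj).trans hcardK

theorem card_le_of_irr_add {q e : ℕ} [hq : Fact q.Prime] (he : e ≠ 0) {V : Type*} [AddCommGroup V]
    [Module (ZMod q) V] [Finite V] (f : V →+ V) (hf : ∀ v, f^[q ^ e] v = f v)
    (hirr : ∀ W : AddSubgroup V, (∀ w ∈ W, f w ∈ W) → W = ⊥ ∨ W = ⊤) : Nat.card V ≤ q ^ e := by
  let T : Module.End (ZMod q) V := AddMonoidHom.toZModLinearMap q f
  have hTapp : ∀ v : V, T v = f v := fun v => rfl
  have hTit : ∀ (n : ℕ) (v : V), (T ^ n) v = f^[n] v := by
    intro n
    induction n with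
    | zero => intro v; rfl
    | succ n ih =>
      intro v
      rw [pow_succ', Module.End.mul_apply, ih, hTapp, Function.iterate_succ_apply']
  refine card_le_of_irreducible_end he T ?_ ?_
  · ext v
    rw [hTit, hf, hTapp]
  · intro W hW
    rcases hirr W.toAddSubgroup (fun w hw => hW w hw) with h1 | h1
    · left
      rw [eq_bot_iff]
      intro w hw
      have h2 : w ∈ W.toAddSubgroup := hw
      rw [h1, AddSubgroup.mem_bot] at h2
      rw [Submodule.mem_bot]
      exact h2
    · right
      rw [eq_top_iff]
      intro w _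
      have h2 : w ∈ W.toAddSubgroup := by rw [h1]; trivial
      exact h2

/-- An endomorphism `c` with `c ^ p = 1` acting irreducibly and nontrivially on a finite elementary abelian
`q`-group `A`: then `|A| = q ^ e`, `e` the order of `q` modulo `p`. -/
theorem card_eq_of_irr_comm {A : Type*} [CommGroup A] [Finite A] {p q : ℕ} [hp : Fact p.Prime] [hq : Fact q.Prime]
    (hpq : q ≠ p) (hAq : ∀ a : A, a ^ q = 1) (c : A →* A) (hc : ∀ a, c^[p] a = a)
    (hirr : ∀ B : Subgroup A, (∀ b ∈ B, c b ∈ B) → B = ⊥ ∨ B = ⊤) (hnt : ∃ a, c a ≠ a) :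
    Nat.card A = q ^ orderOf (q : ZMod p) := by
  classical
  set e := orderOf (q : ZMod p) with he
  have hcop : Nat.Coprime q p := (Nat.coprime_primes hq.out hp.out).mpr hpq
  have hunit : IsUnit (q : ZMod p) := (ZMod.isUnit_iff_coprime q p).mpr hcop
  have he0 : e ≠ 0 := by
    have : 0 < e := by
      rw [he, orderOf_pos_iff]
      exact hunit.isOfFinOrder
    omega
  -- upper bound
  have hupper : Nat.card A ≤ q ^ e := by
    have hq0 : ∀ v : Additive A, q • v = 0 := fun v => by
      change Additive.ofMul ((Additive.toMul v) ^ q) = 0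
      rw [hAq]; rfl
    have hmod : p ∣ q ^ e - 1 := by
      have h1 : ((q ^ e : ℕ) : ZMod p) = ((1 : ℕ) : ZMod p) := by
        push_cast
        rw [he, pow_orderOf_eq_one]
      have h2 := (ZMod.natCast_eq_natCast_iff _ _ _).mp h1
      exact (Nat.modEq_iff_dvd' (Nat.one_le_pow _ _ hq.out.pos)).mp h2.symm
    obtain ⟨m, hm⟩ := hmod
    have hqe : q ^ e = m * p + 1 := by
      have := Nat.one_le_pow e q hq.out.pos
      rw [mul_comm] at hm
      omega
    have hit : ∀ (n : ℕ) (a : A), c^[n * p] a = a := by
      intro n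
      induction n with
      | zero => intro a; simp
      | succ n ih =>
        intro a
        rw [Nat.succ_mul, Function.iterate_add_apply, hc, ih]
    refine @card_le_of_irr_add q e _ he0 (Additive A) _ (AddCommGroup.zmodModule hq0) _
      (MonoidHom.toAdditive c) ?_ ?_
    · intro v
      change c^[q ^ e] (Additive.toMul v) = c (Additive.toMul v)
      rw [hqe, Function.iterate_succ_apply', hit]
    · intro W hW
      let B : Subgroup A := AddSubgroup.toSubgroup' W
      rcases hirr B (fun b hb => hW _ hb) with h1 | h1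
      · left
        rw [eq_bot_iff]
        intro w hw
        have h2 : Additive.toMul w ∈ B := hw
        rw [h1, Subgroup.mem_bot] at h2
        rw [AddSubgroup.mem_bot]
        exact h2
      · right
        rw [eq_top_iff]
        intro w _
        have h2 : Additive.toMul w ∈ B := by rw [h1]; trivial
        exact h2
  -- lower bound
  have hApg : IsPGroup q A := fun a => ⟨1, by rw [pow_one, hAq]⟩
  obtain ⟨d, hd⟩ := IsPGroup.iff_card.mp hApg
  have hfix : ∀ a : A, c a = a → a = 1 := by
    intro a ha
    let B : Subgroup A := { carrier := {b | c b = b}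
                            one_mem' := map_one c
                            mul_mem' := fun {x y} hx hy => by
                              change c (x * y) = x * y
                              rw [map_mul, hx, hy]
                            inv_mem' := fun {x} hx => by
                              change c x⁻¹ = x⁻¹
                              rw [map_inv, hx] }
    rcases hirr B (fun b hb => by
      have hb' : c b = b := hb
      change c (c b) = c b
      rw [hb', hb']) with h1 | h1
    · have h2 : a ∈ B := ha
      rwa [h1, Subgroup.mem_bot] at h2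
    · exfalso
      obtain ⟨b, hb⟩ := hnt
      apply hb
      have h2 : b ∈ B := by rw [h1]; trivial
      exact h2
  have hcong : Nat.card A ≡ 1 [MOD p] := by
    have := Fintype.ofFinite A
    let f : Function.End A := (c : A → A)
    have hf : f ^ p ^ 1 = 1 := by
      rw [pow_one]
      funext a
      have h1 : ∀ (n : ℕ) (b : A), (f ^ n) b = c^[n] b := by
        intro n
        induction n with
        | zero => intro b; rfl
        | succ n ih =>
          intro b
          rw [pow_succ', Function.iterate_succ_apply']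
          change c ((f ^ n) b) = _
          rw [ih]
      rw [h1, hc]
      rfl
    have h := Equiv.Perm.card_fixedPoints_modEq hf
    have h2 : Fintype.card (Function.fixedPoints f) = 1 := by
      rw [Fintype.card_eq_one_iff]
      refine ⟨⟨1, map_one c⟩, ?_⟩
      rintro ⟨a, ha⟩
      exact Subtype.ext (hfix a ha)
    rw [h2, ← Nat.card_eq_fintype_card] at h
    exact h
  have hed : e ∣ d := by
    rw [he, orderOf_dvd_iff_pow_eq_one]
    have h1 := (ZMod.natCast_eq_natCast_iff _ _ _).mpr hcong
    rw [hd] at h1
    push_cast at h1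
    exact h1
  have hd0 : d ≠ 0 := by
    rintro rfl
    rw [pow_zero] at hd
    obtain ⟨a, ha⟩ := hnt
    have := (Nat.card_eq_one_iff_unique.mp hd).1
    exact ha (Subsingleton.elim _ _)
  have hle : e ≤ d := Nat.le_of_dvd (Nat.pos_of_ne_zero hd0) hed
  apply le_antisymm hupper
  rw [hd]
  exact Nat.pow_le_pow_right hq.out.pos hle

/-- Subgroup version: `x` with `x ^ p = 1` normalises the elementary abelian `q`-subgroup `A`, acts irreducibly
and nontrivially.  Then `|A| = q ^ e`, `e` the order of `q` modulo `p`. -/
theorem card_eq_of_irr_subgroup {G : Type*} [Group G] [Finite G] {p q : ℕ} [hp : Fact p.Prime] [hq : Fact q.Prime]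
    (hpq : q ≠ p) (A : Subgroup G) (hAc : ∀ a ∈ A, ∀ b ∈ A, a * b = b * a) (hAq : ∀ a ∈ A, a ^ q = 1)
    (x : G) (hxA : ∀ a ∈ A, x * a * x⁻¹ ∈ A) (hxp : x ^ p = 1)
    (hirr : ∀ B : Subgroup G, B ≤ A → (∀ b ∈ B, x * b * x⁻¹ ∈ B) → B = ⊥ ∨ B = A)
    (hnt : ∃ a ∈ A, x * a * x⁻¹ ≠ a) : Nat.card A = q ^ orderOf (q : ZMod p) := by
  let c : A →* A :=
    { toFun := fun a => ⟨x * a * x⁻¹, hxA a a.2⟩
      map_one' := Subtype.ext (by simp)
      map_mul' := fun a b => Subtype.ext (by simp [mul_assoc]) }
  have hcit : ∀ (n : ℕ) (a : A), ((c^[n] a : A) : G) = x ^ n * a * (x ^ n)⁻¹ := by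
    intro n
    induction n with
    | zero => intro a; simp
    | succ n ih =>
      intro a
      rw [Function.iterate_succ_apply']
      change x * ((c^[n] a : A) : G) * x⁻¹ = _
      rw [ih, pow_succ']
      simp [mul_assoc]
  refine @card_eq_of_irr_comm ↥A
    { (inferInstance : Group A) with mul_comm := fun a b => Subtype.ext (hAc a a.2 b b.2) } _ p q _ _ hpq
    (fun a => Subtype.ext (hAq a a.2)) c ?_ ?_ ?_
  · intro a
    apply Subtype.ext
    rw [hcit, hxp]
    simp
  · intro B hB
    rcases hirr (B.map A.subtype) (Subgroup.map_subtype_le B) (by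
      rintro _ ⟨b, hb, rfl⟩
      exact ⟨c b, hB b hb, rfl⟩) with h1 | h1
    · left
      exact (Subgroup.map_eq_bot_iff_of_injective _ A.subtype_injective).mp h1
    · right
      rw [eq_top_iff]
      intro a _
      have h2 : (a : G) ∈ B.map A.subtype := by rw [h1]; exact a.2
      obtain ⟨b, hb, hba⟩ := h2
      have : b = a := Subtype.ext hba
      rwa [← this]
  · obtain ⟨a, ha, hne⟩ := hnt
    exact ⟨⟨a, ha⟩, fun h => hne (congrArg Subtype.val h)⟩

end Cfsg.Agent.H20
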