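import Mathlib
import Cfsg.Prelude.Def_LocalStructure
import Cfsg.Prelude.Def_Transfer
import Cfsg.Agent.H20.Basic
import Cfsg.Agent.H20.PGroup
import Cfsg.Agent.H20.IrrCyc

/-! Minimal non-p-closed groups: common lemmas (helper20). -/

set_option autoImplicit false

namespace Cfsg.Agent.H20

open Subgroup

variable {G : Type*} [Group G]

theorem isPClosed_of_isPGroup {p : ℕ} (h : IsPGroup p G) : Cfsg.IsPClosed p G := by
  intro P
  have : (⊤ : Subgroup G) = P := P.is_maximal' (h.to_subgroup ⊤) le_top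
  rw [← this]; infer_instance

theorem isPClosed_of_coprime [Finite G] {p : ℕ} [Fact p.Prime] (h : (Nat.card G).Coprime p) :
    Cfsg.IsPClosed p G := by
  intro P
  have : (P : Subgroup G) = ⊥ := by
    have h1 := inf_eq_bot_of_isPGroup_of_coprime (P := (P : Subgroup G)) (N := ⊤) P.2
      (by simpa using h)
    simpa using h1
  rw [this]; infer_instance

theorem isPGroup_zpowers_of_pow_eq_one {p : ℕ} {x : G} (hx : x ^ p = 1) :
    IsPGroup p (zpowers x) := by
  rintro ⟨y, hy⟩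
  obtain ⟨k, rfl⟩ := mem_zpowers_iff.1 hy
  refine ⟨1, ?_⟩
  ext
  simp only [pow_one, SubmonoidClass.mk_pow, OneMemClass.coe_one]
  rw [← zpow_natCast, ← zpow_mul, mul_comm, zpow_mul, zpow_natCast, hx, one_zpow]

/-- in a p-closed group, p-subgroups centralize normal p'-subgroups -/
theorem comm_of_isPClosed [Finite G] {p : ℕ} [Fact p.Prime] (h : Cfsg.IsPClosed p G)
    (A : Subgroup G) [hA : A.Normal] (hc : (Nat.card A).Coprime p) (K : Subgroup G)
    (hK : IsPGroup p K) {x a : G} (hx : x ∈ K) (ha : a ∈ A) : x * a = a * x := by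
  obtain ⟨S⟩ : Nonempty (Sylow p G) := inferInstance
  have hSn := h S
  have hxS : x ∈ (S : Subgroup G) := le_normal_sylow S hSn hK hx
  have h1 : x * a * x⁻¹ * a⁻¹ ∈ (S : Subgroup G) ⊓ A := by
    rw [mem_inf]
    refine ⟨?_, ?_⟩
    · have h3 : a * x⁻¹ * a⁻¹ ∈ (S : Subgroup G) := hSn.conj_mem _ (inv_mem hxS) a
      have h2 := mul_mem hxS h3
      have e : x * a * x⁻¹ * a⁻¹ = x * (a * x⁻¹ * a⁻¹) := by group
      rw [e]; exact h2
    · exact mul_mem (hA.conj_mem a ha x) (inv_mem ha)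
  rw [inf_eq_bot_of_isPGroup_of_coprime S.2 hc, mem_bot] at h1
  have h2 : x * a = (x * a * x⁻¹ * a⁻¹) * (a * x) := by group
  rw [h2, h1, one_mul]

theorem comm_of_isPClosed_subgroup [Finite G] {p : ℕ} [Fact p.Prime] {H : Subgroup G}
    (h : Cfsg.IsPClosed p H) {A K : Subgroup G} (hAH : A ≤ H) (hHA : H ≤ normalizer (A : Set G))
    (hc : (Nat.card A).Coprime p) (hKH : K ≤ H) (hK : IsPGroup p K) {x a : G} (hx : x ∈ K)
    (ha : a ∈ A) : x * a = a * x := by
  have : (A.subgroupOf H).Normal := (normal_subgroupOf_iff_le_normalizer hAH).2 hHA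
  have h1 := comm_of_isPClosed h (A.subgroupOf H)
    (by rw [card_subgroupOf, inf_eq_left.2 hAH]; exact hc) (K.subgroupOf H)
    (hK.comap_of_injective _ H.subtype_injective) (x := ⟨x, hKH hx⟩) (a := ⟨a, hAH ha⟩)
    (by simpa [mem_subgroupOf] using hx) (by simpa [mem_subgroupOf] using ha)
  exact congrArg Subtype.val h1

theorem sup_eq_top_of_index_prime {A H : Subgroup G} {p : ℕ} (hp : p.Prime) (hidx : A.index = p)
    (h : ¬ H ≤ A) : A ⊔ H = ⊤ := by
  have h1 := relIndex_mul_index (le_sup_left : A ≤ A ⊔ H)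
  rw [hidx] at h1
  have h2 : (A ⊔ H).index ∣ p := Dvd.intro_left _ h1
  rcases (Nat.dvd_prime hp).1 h2 with h3 | h3
  · exact index_eq_one.1 h3
  · exfalso
    rw [h3] at h1
    have h4 : A.relIndex (A ⊔ H) = 1 := by
      have := hp.pos
      nlinarith [Nat.eq_of_mul_eq_mul_right this (by rw [h1, one_mul] : A.relIndex (A ⊔ H) * p = 1 * p)]
    exact h (le_sup_right.trans (relIndex_eq_one.1 h4))

theorem comm_of_sup_eq_top {A : Subgroup G} {y : G} (hA : ∀ a ∈ A, ∀ b ∈ A, a * b = b * a)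
    (hy : ∀ a ∈ A, y * a = a * y) (htop : A ⊔ zpowers y = ⊤) : ∀ g h : G, g * h = h * g := by
  have hyc : y ∈ center G := by
    rw [mem_center_iff]
    intro g
    have h1 : A ⊔ zpowers y ≤ centralizer {y} :=
      sup_le (fun a ha => mem_centralizer_singleton_iff.2 (hy a ha).symm)
        (zpowers_le.2 (mem_centralizer_singleton_iff.2 rfl))
    have h2 : g ∈ centralizer {y} := h1 (htop ▸ mem_top g)
    exact mem_centralizer_singleton_iff.1 h2
  have hAc : A ≤ center G := by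
    intro a ha
    rw [mem_center_iff]
    intro g
    have h1 : A ⊔ zpowers y ≤ centralizer {a} :=
      sup_le (fun b hb => mem_centralizer_singleton_iff.2 (hA b hb a ha))
        (zpowers_le.2 (mem_centralizer_singleton_iff.2 (hy a ha)))
    have h2 : g ∈ centralizer {a} := h1 (htop ▸ mem_top g)
    exact mem_centralizer_singleton_iff.1 h2
  have h3 : center G = ⊤ := top_le_iff.1 (htop ▸ sup_le hAc (zpowers_le.2 hyc))
  intro g h
  have : g ∈ center G := h3 ▸ mem_top g
  exact (mem_center_iff.1 this h).symm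

theorem mem_normalizer_of_conj_mem [Finite G] {B : Subgroup G} {x : G}
    (h : ∀ b ∈ B, x * b * x⁻¹ ∈ B) : x ∈ normalizer (B : Set G) := by
  rw [mem_normalizer_iff_conj]
  apply Subgroup.eq_of_le_of_card_ge
  · rintro _ ⟨b, hb, rfl⟩
    exact h b hb
  · rw [card_sconj]

theorem normal_of_invariant [Finite G] {A B : Subgroup G} {x : G}
    (hA : ∀ a ∈ A, ∀ b ∈ A, a * b = b * a) (hBA : B ≤ A) (hx : ∀ b ∈ B, x * b * x⁻¹ ∈ B)
    (htop : A ⊔ zpowers x = ⊤) : B.Normal := by
  rw [← normalizer_eq_top_iff, ← top_le_iff, ← htop]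
  refine sup_le ?_ (zpowers_le.2 (mem_normalizer_of_conj_mem hx))
  intro a ha
  apply mem_normalizer_of_conj_mem
  intro b hb
  rw [hA a ha b (hBA hb), mul_inv_cancel_right]
  exact hb

theorem card_of_minimal_normal [Finite G] {p q : ℕ} [Fact p.Prime] [Fact q.Prime] (hpq : q ≠ p)
    (A : Subgroup G) [hAn : A.Normal] (hA : Cfsg.IsElementaryAbelian q A)
    (hmin : ∀ B : Subgroup G, B.Normal → B ≤ A → B = ⊥ ∨ B = A) (x : G) (hxp : x ^ p = 1)
    (htop : A ⊔ zpowers x = ⊤) (hnc : ∃ a ∈ A, x * a ≠ a * x) :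
    Nat.card A = q ^ orderOf (q : ZMod p) := by
  have hAc : ∀ a ∈ A, ∀ b ∈ A, a * b = b * a := fun a ha b hb => comm_of_mem hA.1 ha hb
  refine card_eq_of_irr_subgroup hpq A hAc hA.2 x (fun a ha => hAn.conj_mem a ha x) hxp ?_ ?_
  · intro B hBA hB
    exact hmin B (normal_of_invariant hAc hBA hB htop) hBA
  · obtain ⟨a, ha, hne⟩ := hnc
    refine ⟨a, ha, fun h => hne ?_⟩
    calc x * a = (x * a * x⁻¹) * x := by group
      _ = a * x := by rw [h]

end Cfsg.Agent.H20
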