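import Mathlib
import Cfsg.Agent.H1.Kegel1

/-! Nilpotent minimal covers of centreless groups: abelian Sylow subgroups. -/

set_option autoImplicit false

namespace Cfsg.Agent.H20.NilCover

open Subgroup
open scoped Pointwise

variable {G : Type*} [Group G]

theorem commute_of_parts {X : Type*} [Group X] {a x : X} {m n : ℕ} (hmn : m.Coprime n)
    (h1 : Commute (a ^ m) x) (h2 : Commute (a ^ n) x) : Commute a x := by
  have : a = (a ^ m) ^ (Nat.gcdA m n) * (a ^ n) ^ (Nat.gcdB m n) := by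
    rw [← zpow_natCast, ← zpow_natCast, ← zpow_mul, ← zpow_mul, ← zpow_add,
      ← Nat.gcd_eq_gcd_ab, hmn.gcd_eq_one]
    simp
  rw [this]
  exact (h1.zpow_left _).mul_left (h2.zpow_left _)

theorem mem_of_parts {X : Type*} [Group X] (K : Subgroup X) {a : X} {m n : ℕ} (hmn : m.Coprime n)
    (h1 : a ^ m ∈ K) (h2 : a ^ n ∈ K) : a ∈ K := by
  have : a = (a ^ m) ^ (Nat.gcdA m n) * (a ^ n) ^ (Nat.gcdB m n) := by
    rw [← zpow_natCast, ← zpow_natCast, ← zpow_mul, ← zpow_mul, ← zpow_add,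
      ← Nat.gcd_eq_gcd_ab, hmn.gcd_eq_one]
    simp
  rw [this]
  exact K.mul_mem (K.zpow_mem h1 _) (K.zpow_mem h2 _)

/-- splitting the order of an element -/
theorem exists_split {X : Type*} [Group X] [Finite X] (p : ℕ) [hp : Fact p.Prime] (a : X) :
    ∃ k m : ℕ, m.Coprime (p ^ k) ∧ (a ^ m) ^ (p ^ k) = 1 ∧ (a ^ (p ^ k)) ^ m = 1 ∧ m.Coprime p := by
  obtain ⟨k, m, hm, ho⟩ := Nat.exists_eq_pow_mul_and_not_dvd (orderOf_pos a).ne' p hp.out.ne_one
  have hmp : m.Coprime p := ((Nat.Prime.coprime_iff_not_dvd hp.out).2 hm).symm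
  refine ⟨k, m, Nat.Coprime.pow_right k hmp, ?_, ?_, hmp⟩
  · rw [← pow_mul, mul_comm, ← ho, pow_orderOf_eq_one]
  · rw [← pow_mul, ← ho, pow_orderOf_eq_one]

structure NC [Finite G] (𝓐 : Finset (Subgroup G)) : Prop where
  hZ : center G = ⊥
  hprop : ∀ A ∈ 𝓐, A ≠ ⊤
  hcov : ∀ g : G, ∃ A ∈ 𝓐, g ∈ A
  hmin : ∀ 𝓑 : Finset (Subgroup G), (∀ A ∈ 𝓑, A ≠ ⊤) ∧ (∀ g : G, ∃ A ∈ 𝓑, g ∈ A) → 𝓐.card ≤ 𝓑.card
  hnil : ∀ A ∈ 𝓐, Group.IsNilpotent ↥A

def Good {p : ℕ} (P : Sylow p G) : Prop :=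
  (∀ a ∈ P, ∀ b ∈ P, a * b = b * a) ∧ ((∃ x ∈ P, x ^ p ≠ 1) ∨ Nat.card P = p)

variable [Finite G] {𝓐 : Finset (Subgroup G)}

theorem NC.merge (h : NC 𝓐) {M A A' : Subgroup G} (hM : M ≠ ⊤) (hA : A ∈ 𝓐) (hA' : A' ∈ 𝓐)
    (hne : A ≠ A') (h1 : A ≤ M) (h2 : A' ≤ M) : False := by
  classical
  have hA'e : A' ∈ 𝓐.erase A := Finset.mem_erase.2 ⟨hne.symm, hA'⟩
  have c1 := Finset.card_erase_of_mem hA
  have c2 := Finset.card_erase_of_mem hA'e
  have c3 := Finset.card_insert_le M ((𝓐.erase A).erase A')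
  have c5 : 0 < (𝓐.erase A).card := Finset.card_pos.2 ⟨A', hA'e⟩
  have c4 := h.hmin (insert M ((𝓐.erase A).erase A')) ⟨?_, ?_⟩
  · omega
  · intro B hB
    rcases Finset.mem_insert.1 hB with rfl | hB
    · exact hM
    · exact h.hprop B (Finset.mem_of_mem_erase (Finset.mem_of_mem_erase hB))
  · intro g
    obtain ⟨B, hB, hg⟩ := h.hcov g
    by_cases e1 : B = A
    · exact ⟨M, Finset.mem_insert_self _ _, h1 (e1 ▸ hg)⟩
    · by_cases e2 : B = A'
      · exact ⟨M, Finset.mem_insert_self _ _, h2 (e2 ▸ hg)⟩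
      · exact ⟨B, Finset.mem_insert_of_mem (Finset.mem_erase.2 ⟨e2, Finset.mem_erase.2 ⟨e1, hB⟩⟩), hg⟩

theorem NC.cent_ne_top (h : NC 𝓐) {x : G} (hx : x ≠ 1) : centralizer ({x} : Set G) ≠ ⊤ := by
  intro h0
  rw [centralizer_eq_top_iff_subset, h.hZ] at h0
  exact hx (mem_bot.1 (h0 rfl))

variable {p : ℕ} [hp : Fact p.Prime]

omit [Finite G] hp in
theorem mem_smul_iff (P : Sylow p G) (g x : G) :
    x ∈ ((g • P : Sylow p G) : Subgroup G) ↔ g⁻¹ * x * g ∈ (P : Subgroup G) := by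
  rw [Sylow.coe_subgroup_smul, Subgroup.mem_pointwise_smul_iff_inv_smul_mem]
  simp [MulAut.smul_def]

theorem Good.smul {P : Sylow p G} (hP : Good P) (g : G) : Good (g • P) := by
  refine ⟨?_, ?_⟩
  · intro a ha b hb
    have h1 := hP.1 _ ((mem_smul_iff P g a).1 ha) _ ((mem_smul_iff P g b).1 hb)
    have h2 : a * b = g * ((g⁻¹ * a * g) * (g⁻¹ * b * g)) * g⁻¹ := by group
    rw [h2, h1]; group
  · rcases hP.2 with ⟨x, hx, hxp⟩ | hc
    · left
      refine ⟨g * x * g⁻¹, (mem_smul_iff P g _).2 (by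
        have : g⁻¹ * (g * x * g⁻¹) * g = x := by group
        rw [this]; exact hx), ?_⟩
      rw [conj_pow]
      intro h0
      apply hxp
      have : x ^ p = g⁻¹ * (g * x ^ p * g⁻¹) * g := by group
      rw [this, h0]; group
    · right
      exact ((g • P).card_eq_multiplicity.trans P.card_eq_multiplicity.symm).trans hc

theorem pelem_mem (P : Sylow p G) {u : G} {k : ℕ} (hu : u ^ (p ^ k) = 1)
    (hn : u ∈ normalizer ((P : Subgroup G) : Set G)) : u ∈ (P : Subgroup G) := by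
  have hpg : IsPGroup p (zpowers u) := by
    rw [IsPGroup.iff_card]
    obtain ⟨j, -, hj⟩ := (Nat.dvd_prime_pow hp.out).1 (orderOf_dvd_of_pow_eq_one hu)
    exact ⟨j, by rw [Nat.card_zpowers, hj]⟩
  have h1 := hpg.inf_normalizer_sylow P
  have h2 : u ∈ zpowers u ⊓ normalizer (P : Set G) := ⟨mem_zpowers u, hn⟩
  rw [h1] at h2
  exact h2.2

theorem Good.exists_ne_one {P : Sylow p G} (hP : Good P) : ∃ x ∈ P, x ≠ 1 := by
  rcases hP.2 with ⟨x, hx, hxp⟩ | hc
  · exact ⟨x, hx, fun h => hxp (by rw [h, one_pow])⟩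
  · have : Nontrivial (P : Subgroup G) := by
      rw [← Finite.one_lt_card_iff_nontrivial]
      have : Nat.card (P : Subgroup G) = p := hc
      rw [this]; exact hp.out.one_lt
    obtain ⟨x, hx⟩ := exists_ne (1 : (P : Subgroup G))
    exact ⟨x, x.2, fun h => hx (Subtype.ext h)⟩

/-- members containing an element of an abelian Sylow subgroup centralise it -/
theorem NC.le_cent (h : NC 𝓐) {P : Sylow p G} (hP : Good P) {x : G} (hx : x ∈ P)
    {A : Subgroup G} (hA : A ∈ 𝓐) (hxA : x ∈ A) : A ≤ centralizer ({x} : Set G) := by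
  intro a ha
  rw [mem_centralizer_singleton_iff]
  have hnil := h.hnil A hA
  obtain ⟨kx, hkx⟩ := (IsPGroup.iff_orderOf.1 P.2) ⟨x, hx⟩
  rw [Subgroup.orderOf_mk] at hkx
  obtain ⟨k, m, hmk, hu, hd, hmp⟩ := exists_split p (⟨a, ha⟩ : A)
  have key : Commute (⟨a, ha⟩ : A) ⟨x, hxA⟩ := by
    apply commute_of_parts hmk
    · -- two p-elements
      obtain ⟨S⟩ : Nonempty (Sylow p A) := inferInstance
      have hSn : (S : Subgroup A).Normal :=
        Sylow.normal_of_normalizerCondition Group.normalizerCondition_of_isNilpotent S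
      have hN : normalizer ((S : Subgroup A) : Set A) = ⊤ := normalizer_eq_top_iff.2 hSn
      have m1 : (⟨a, ha⟩ : A) ^ m ∈ (S : Subgroup A) := pelem_mem S hu (by rw [hN]; exact mem_top _)
      have m2 : (⟨x, hxA⟩ : A) ∈ (S : Subgroup A) := by
        apply pelem_mem S (k := kx) _ (by rw [hN]; exact mem_top _)
        apply Subtype.ext
        simp only [Subgroup.coe_pow, Subgroup.coe_one]
        rw [← hkx, pow_orderOf_eq_one]
      have hpg : IsPGroup p ((S : Subgroup A).map A.subtype) := S.2.map _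
      obtain ⟨P'', hP''⟩ := hpg.exists_le_sylow
      obtain ⟨g, hg⟩ := MulAction.exists_smul_eq G P P''
      have hgood := hP.smul g
      rw [hg] at hgood
      have := hgood.1 _ (hP'' ⟨_, m1, rfl⟩) _ (hP'' ⟨_, m2, rfl⟩)
      exact Subtype.ext this
    · apply Cfsg.H1.commute_of_coprime_of_nilpotent
      have o1 : orderOf ((⟨a, ha⟩ : A) ^ (p ^ k)) ∣ m := orderOf_dvd_of_pow_eq_one hd
      have o2 : orderOf (⟨x, hxA⟩ : A) = p ^ kx := by rw [Subgroup.orderOf_mk, hkx]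
      rw [o2]
      exact Nat.Coprime.coprime_dvd_left o1 (Nat.Coprime.pow_right kx hmp)
  exact congrArg Subtype.val key.eq

theorem NC.uniq (h : NC 𝓐) {P : Sylow p G} (hP : Good P) {x : G} (hx : x ∈ P) (hx1 : x ≠ 1)
    {A B : Subgroup G} (hA : A ∈ 𝓐) (hB : B ∈ 𝓐) (hxA : x ∈ A) (hxB : x ∈ B) : A = B := by
  by_contra hne
  exact h.merge (h.cent_ne_top hx1) hA hB hne (h.le_cent hP hx hA hxA) (h.le_cent hP hx hB hxB)

theorem NC.exists_le (h : NC 𝓐) {P : Sylow p G} (hP : Good P) :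
    ∃ A ∈ 𝓐, (P : Subgroup G) ≤ A := by
  rcases hP.2 with ⟨x, hx, hxp⟩ | hc
  · obtain ⟨A, hA, hxA⟩ := h.hcov x
    refine ⟨A, hA, ?_⟩
    have step1 : ∀ y ∈ P, y ^ p = 1 → y ∈ A := by
      intro y hy hyp
      obtain ⟨B, hB, hwB⟩ := h.hcov (x * y)
      have hw : (x * y) ^ p = x ^ p := by
        have : Commute x y := hP.1 x hx y hy
        rw [this.mul_pow, hyp, mul_one]
      have h1 : x ^ p ∈ B := hw ▸ B.pow_mem hwB p
      have h2 : A = B := h.uniq hP (P.pow_mem hx p) hxp hA hB (A.pow_mem hxA p) h1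
      have h3 : y = x⁻¹ * (x * y) := by group
      rw [h3]
      exact A.mul_mem (A.inv_mem hxA) (h2 ▸ hwB)
    intro y hy
    by_cases hy1 : y = 1
    · rw [hy1]; exact A.one_mem
    obtain ⟨k, hk⟩ := (IsPGroup.iff_orderOf.1 P.2) ⟨y, hy⟩
    rw [Subgroup.orderOf_mk] at hk
    have hk0 : k ≠ 0 := by
      rintro rfl
      rw [pow_zero, orderOf_eq_one_iff] at hk
      exact hy1 hk
    obtain ⟨j, rfl⟩ := Nat.exists_eq_succ_of_ne_zero hk0
    have e1 : (y ^ (p ^ j)) ^ p = 1 := by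
      rw [← pow_mul, ← pow_succ, ← hk, pow_orderOf_eq_one]
    have e2 : y ^ (p ^ j) ≠ 1 := by
      apply pow_ne_one_of_lt_orderOf (pow_pos hp.out.pos j).ne'
      rw [hk]
      exact Nat.pow_lt_pow_right hp.out.one_lt (Nat.lt_succ_self j)
    have e3 := step1 _ (P.pow_mem hy _) e1
    obtain ⟨B, hB, hyB⟩ := h.hcov y
    have e4 : A = B := h.uniq hP (P.pow_mem hy _) e2 hA hB e3 (B.pow_mem hyB _)
    exact e4 ▸ hyB
  · obtain ⟨x, hx, hx1⟩ := hP.exists_ne_one
    obtain ⟨A, hA, hxA⟩ := h.hcov x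
    refine ⟨A, hA, ?_⟩
    intro y hy
    have h1 : (⟨y, hy⟩ : (P : Subgroup G)) ∈ zpowers (⟨x, hx⟩ : (P : Subgroup G)) :=
      mem_zpowers_of_prime_card hc (fun h0 => hx1 (congrArg Subtype.val h0))
    obtain ⟨n, hn⟩ := mem_zpowers_iff.1 h1
    have h2 : x ^ n = y := by
      have := congrArg Subtype.val hn
      simpa using this
    rw [← h2]
    exact A.zpow_mem hxA n

theorem NC.cent_eq (h : NC 𝓐) {P : Sylow p G} (hP : Good P) {A : Subgroup G} (hA : A ∈ 𝓐)
    (hPA : (P : Subgroup G) ≤ A) : centralizer ((P : Subgroup G) : Set G) = A := by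
  apply le_antisymm
  · intro c hc
    obtain ⟨x, hx, hx1⟩ := hP.exists_ne_one
    obtain ⟨kx, hkx⟩ := (IsPGroup.iff_orderOf.1 P.2) ⟨x, hx⟩
    rw [Subgroup.orderOf_mk] at hkx
    obtain ⟨k, m, hmk, hu, hd, hmp⟩ := exists_split p c
    apply mem_of_parts A hmk
    · apply hPA
      apply pelem_mem P hu
      exact centralizer_le_normalizer _ ((centralizer _).pow_mem hc m)
    · set d := c ^ (p ^ k) with hddef
      have hdc : d ∈ centralizer ((P : Subgroup G) : Set G) := (centralizer _).pow_mem hc _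
      have hcomm : Commute x d := (mem_centralizer_iff.1 hdc) x hx
      obtain ⟨B, hB, hwB⟩ := h.hcov (x * d)
      have e1 : (x * d) ^ m = x ^ m := by rw [hcomm.mul_pow, hd, mul_one]
      have e2 : x ^ m ∈ B := e1 ▸ B.pow_mem hwB m
      have e3 : x ∈ B := by
        obtain ⟨j, hj⟩ := exists_pow_eq_self_of_coprime (x := x) (n := m)
          (by rw [hkx]; exact Nat.Coprime.pow_right kx hmp)
        rw [← hj]
        exact B.pow_mem e2 j
      have e4 : A = B := h.uniq hP hx hx1 hA hB (hPA hx) e3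
      have e5 : d = x⁻¹ * (x * d) := by group
      rw [e5]
      exact A.mul_mem (A.inv_mem (hPA hx)) (e4 ▸ hwB)
  · intro a ha
    rw [mem_centralizer_iff]
    intro y hy
    have := h.le_cent hP hy hA (hPA hy) ha
    exact (mem_centralizer_singleton_iff.1 this).symm

theorem NC.ne_of_notMem (h : NC 𝓐) {P : Sylow p G} (hP : Good P) {A A' : Subgroup G} (hA : A ∈ 𝓐)
    (hPA : (P : Subgroup G) ≤ A) {g : G} (hg : g ∉ normalizer ((P : Subgroup G) : Set G))
    (hPA' : ((g • P : Sylow p G) : Subgroup G) ≤ A') : A ≠ A' := by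
  intro hAA
  apply hg
  have hc := h.cent_eq hP hA hPA
  have hle : ((g • P : Sylow p G) : Subgroup G) ≤ (P : Subgroup G) := by
    intro y hy
    obtain ⟨k, hk⟩ := (g • P : Sylow p G).2 ⟨y, hy⟩
    have hk' : y ^ (p ^ k) = 1 := by
      have := congrArg Subtype.val hk
      simpa using this
    apply pelem_mem P hk'
    apply centralizer_le_normalizer
    rw [hc, hAA]
    exact hPA' hy
  have h1 := (g • P : Sylow p G).is_maximal' P.2 hle
  have h2 : g • P = P := Sylow.ext h1.symm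
  exact Sylow.smul_eq_iff_mem_normalizer.1 h2

theorem NC.le_normalizer (h : NC 𝓐) {P : Sylow p G} (hP : Good P) {M : Subgroup G} (hM : M ≠ ⊤)
    (hcM : centralizer ((P : Subgroup G) : Set G) ≤ M) :
    M ≤ normalizer ((P : Subgroup G) : Set G) := by
  by_contra hcon
  obtain ⟨m, hmM, hmN⟩ := SetLike.not_le_iff_exists.1 hcon
  obtain ⟨A, hA, hPA⟩ := h.exists_le hP
  obtain ⟨A', hA', hPA'⟩ := h.exists_le (hP.smul m)
  have hc := h.cent_eq hP hA hPA
  have hc' := h.cent_eq (hP.smul m) hA' hPA'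
  have hA'M : A' ≤ M := by
    intro c hcA
    rw [← hc', mem_centralizer_iff] at hcA
    have h1 : m⁻¹ * c * m ∈ centralizer ((P : Subgroup G) : Set G) := by
      rw [mem_centralizer_iff]
      intro y hy
      have h2 : m * y * m⁻¹ ∈ ((m • P : Sylow p G) : Subgroup G) := by
        rw [mem_smul_iff]
        have : m⁻¹ * (m * y * m⁻¹) * m = y := by group
        rw [this]; exact hy
      have h3 := hcA _ h2
      calc y * (m⁻¹ * c * m) = m⁻¹ * ((m * y * m⁻¹) * c) * m := by group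
        _ = m⁻¹ * (c * (m * y * m⁻¹)) * m := by rw [h3]
        _ = m⁻¹ * c * m * y := by group
    have h4 := M.mul_mem (M.mul_mem hmM (hcM h1)) (M.inv_mem hmM)
    have h5 : m * (m⁻¹ * c * m) * m⁻¹ = c := by group
    rwa [h5] at h4
  exact h.merge hM hA hA' (h.ne_of_notMem hP hA hPA hmN hPA') (hc ▸ hcM) hA'M

theorem NC.main (h : NC 𝓐) {P : Sylow p G} (hP : Good P) (hnn : ¬ (P : Subgroup G).Normal) :
    ∃ A ∈ 𝓐, (P : Subgroup G) ≤ A ∧ ¬ p ∣ ((P : Subgroup G).subgroupOf A).index ∧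
      IsCoatom (normalizer ((P : Subgroup G) : Set G)) ∧
      (∀ g : G, g ∉ normalizer ((P : Subgroup G) : Set G) →
        ¬ p ∣ Nat.card ↥(normalizer ((P : Subgroup G) : Set G) ⊓
          (normalizer ((P : Subgroup G) : Set G)).map (MulAut.conj g).toMonoidHom)) ∧
      centralizer ((P : Subgroup G) : Set G) = A ∧
      (∀ M : Subgroup G, IsCoatom M → centralizer ((P : Subgroup G) : Set G) ≤ M →
        M = normalizer ((P : Subgroup G) : Set G)) := by
  obtain ⟨A, hA, hPA⟩ := h.exists_le hP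
  have hc := h.cent_eq hP hA hPA
  have hNtop : normalizer ((P : Subgroup G) : Set G) ≠ ⊤ := fun h0 => hnn (normalizer_eq_top_iff.1 h0)
  refine ⟨A, hA, hPA, ?_, ⟨hNtop, ?_⟩, ?_, hc, ?_⟩
  · intro hdvd
    exact P.not_dvd_index (hdvd.trans (relIndex_dvd_index_of_le hPA))
  · intro M hNM
    by_contra hM
    have h1 := h.le_normalizer hP hM ((centralizer_le_normalizer _).trans hNM.le)
    exact absurd hNM (not_lt_of_ge h1)
  · intro g hg hdvd
    obtain ⟨y, hy⟩ := exists_prime_orderOf_dvd_card' (G := ↥(normalizer ((P : Subgroup G) : Set G) ⊓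
          (normalizer ((P : Subgroup G) : Set G)).map (MulAut.conj g).toMonoidHom)) p hdvd
    have hy' : orderOf (y : G) = p := by rw [Subgroup.orderOf_coe]; exact hy
    have hy1 : (y : G) ≠ 1 := by
      intro h0
      rw [h0, orderOf_one] at hy'
      exact hp.out.one_lt.ne hy'
    have hyp : (y : G) ^ (p ^ 1) = 1 := by
      rw [pow_one]
      exact orderOf_dvd_iff_pow_eq_one.1 (dvd_of_eq hy')
    have hyP : (y : G) ∈ (P : Subgroup G) := pelem_mem P hyp y.2.1
    obtain ⟨n, hn, hny⟩ := y.2.2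
    have hny' : g * n * g⁻¹ = (y : G) := by simpa using hny
    have hnp : n ^ (p ^ 1) = 1 := by
      have : n = g⁻¹ * (y : G) * g := by rw [← hny']; group
      have h2 : n ^ (p ^ 1) = g⁻¹ * (y : G) ^ (p ^ 1) * g := by
        rw [this]
        have := conj_pow (a := g⁻¹) (b := (y : G)) (i := p ^ 1)
        simpa using this
      rw [h2, hyp]; group
    have hnP : n ∈ (P : Subgroup G) := pelem_mem P hnp hn
    have hygP : (y : G) ∈ ((g • P : Sylow p G) : Subgroup G) := by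
      rw [mem_smul_iff, ← hny']
      have : g⁻¹ * (g * n * g⁻¹) * g = n := by group
      rw [this]; exact hnP
    obtain ⟨A', hA', hPA'⟩ := h.exists_le (hP.smul g)
    exact h.ne_of_notMem hP hA hPA hg hPA' (h.uniq hP hyP hy1 hA hA' (hPA hyP) (hPA' hygP))
  · intro M hM hcM
    have h1 := h.le_normalizer hP hM.1 hcM
    exact ((hM.le_iff_eq hNtop).1 h1).symm

end Cfsg.Agent.H20.NilCover
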