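import Mathlib
import Cfsg.Prelude.Def_LocalEven
import Cfsg.Agent.H9.Cores
import Cfsg.Agent.H1.Fit
import Cfsg.Agent.H20.CharSub
import Cfsg.Agent.H20.Wielandt

/-!
Maximal `p`-local subgroups (helper20).
-/

set_option autoImplicit false

namespace Cfsg.Agent.H20

open Subgroup

variable {G : Type*} [Group G]

/-- `O_p(M)` as a subgroup of the ambient group. -/
noncomputable def Op (p : ℕ) (M : Subgroup G) : Subgroup G := (Cfsg.pCore p ↥M).map M.subtype

theorem Op_le (p : ℕ) (M : Subgroup G) : Op p M ≤ M := map_subtype_le _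

theorem Op_isPGroup (p : ℕ) (M : Subgroup G) : IsPGroup p (Op p M) :=
  (Cfsg.H1.pCore_isPGroup p).map _

theorem normalizer_le_normalizer_Op (p : ℕ) (M : Subgroup G) :
    normalizer (M : Set G) ≤ normalizer (Op p M : Set G) :=
  char_le_normalizer M (Cfsg.pCore p ↥M)

theorem le_Op {p : ℕ} {R M : Subgroup G} (hRM : R ≤ M) (hR : IsPGroup p R)
    (hn : M ≤ normalizer (R : Set G)) : R ≤ Op p M := by
  have h1 : (R.subgroupOf M).Normal := normal_subgroupOf_of_le_normalizer hn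
  have h2 : R.subgroupOf M ≤ Cfsg.pCore p ↥M := Cfsg.H1.le_pCore h1 hR.comap_subtype
  have h3 := map_mono (f := M.subtype) h2
  rwa [map_subgroupOf_eq_of_le hRM] at h3

theorem inf_centralizer_Op_le {p : ℕ} {M : Subgroup G}
    (h : centralizer (Cfsg.pCore p ↥M : Set ↥M) ≤ Cfsg.pCore p ↥M) :
    M ⊓ centralizer (Op p M : Set G) ≤ Op p M := by
  rintro x ⟨hxM, hx⟩
  refine ⟨⟨x, hxM⟩, h ?_, rfl⟩
  rw [mem_centralizer_iff]
  intro y hy
  apply Subtype.ext
  exact (mem_centralizer_iff.1 hx) y.1 ⟨y, hy, rfl⟩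

/-- `T` is a maximal `p`-subgroup of `M`. -/
def MaxP (p : ℕ) (T M : Subgroup G) : Prop :=
  T ≤ M ∧ IsPGroup p T ∧ ∀ R : Subgroup G, IsPGroup p R → R ≤ M → T ≤ R → R = T

theorem MaxP.Op_le {p : ℕ} {T M : Subgroup G} (h : MaxP p T M) : Op p M ≤ T := by
  have h1 : IsPGroup p (T ⊔ Op p M : Subgroup G) :=
    IsPGroup.to_sup_of_normal_right' h.2.1 (Op_isPGroup p M)
      (h.1.trans (le_normalizer.trans (normalizer_le_normalizer_Op p M)))
  have h2 := h.2.2 _ h1 (sup_le h.1 (H20.Op_le p M)) le_sup_left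
  rw [← h2]; exact le_sup_right

theorem MaxP.conj {p : ℕ} {T M : Subgroup G} (h : MaxP p T M) (x : G) :
    MaxP p (T.map (MulAut.conj x).toMonoidHom) (M.map (MulAut.conj x).toMonoidHom) := by
  refine ⟨map_mono h.1, h.2.1.map _, ?_⟩
  intro R hR hRM hTR
  have e : ∀ K : Subgroup G, (K.map (MulAut.conj x).toMonoidHom).map (MulAut.conj x⁻¹).toMonoidHom = K := by
    intro K
    rw [Subgroup.map_map]
    have : (MulAut.conj x⁻¹).toMonoidHom.comp (MulAut.conj x).toMonoidHom = MonoidHom.id G := by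
      ext y; simp [MulAut.conj_apply]; group
    rw [this, Subgroup.map_id]
  have e' : ∀ K : Subgroup G, (K.map (MulAut.conj x⁻¹).toMonoidHom).map (MulAut.conj x).toMonoidHom = K := by
    intro K
    rw [Subgroup.map_map]
    have : (MulAut.conj x).toMonoidHom.comp (MulAut.conj x⁻¹).toMonoidHom = MonoidHom.id G := by
      ext y; simp [MulAut.conj_apply]; group
    rw [this, Subgroup.map_id]
  have h1 := h.2.2 (R.map (MulAut.conj x⁻¹).toMonoidHom) (hR.map _)
    (by have := map_mono (f := (MulAut.conj x⁻¹).toMonoidHom) hRM; rwa [e] at this)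
    (by have := map_mono (f := (MulAut.conj x⁻¹).toMonoidHom) hTR; rwa [e] at this)
  rw [← h1, e']

/-- Normalizers grow in finite `p`-groups. -/
theorem exists_normalizer_notMem {p : ℕ} [Fact p.Prime] {P Q : Subgroup G} [Finite Q] (hQ : IsPGroup p Q)
    (hPQ : P < Q) : ∃ g ∈ Q, g ∈ Subgroup.normalizer (P : Set G) ∧ g ∉ P := by
  have : Group.IsNilpotent Q := hQ.isNilpotent
  have hlt : P.subgroupOf Q < ⊤ := by
    rw [lt_top_iff_ne_top]
    intro h
    rw [Subgroup.subgroupOf_eq_top] at h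
    exact absurd h (not_le_of_gt hPQ)
  have h1 := Group.normalizerCondition_of_isNilpotent (G := Q) _ hlt
  obtain ⟨g, hgN, hg⟩ := SetLike.exists_of_lt h1
  refine ⟨g, g.2, ?_, fun h => hg (Subgroup.mem_subgroupOf.2 h)⟩
  rw [Subgroup.mem_normalizer_iff] at hgN ⊢
  intro x
  constructor
  · intro hx
    have := (hgN ⟨x, hPQ.le hx⟩).1 (Subgroup.mem_subgroupOf.2 hx)
    exact Subgroup.mem_subgroupOf.1 this
  · intro hx
    have hxQ : x ∈ Q := by
      have h2 := Q.mul_mem (Q.mul_mem (Q.inv_mem g.2) (hPQ.le hx)) g.2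
      have h3 : (g : G)⁻¹ * ((g : G) * x * (g : G)⁻¹) * g = x := by group
      rwa [h3] at h2
    have := (hgN ⟨x, hxQ⟩).2 (Subgroup.mem_subgroupOf.2 hx)
    exact Subgroup.mem_subgroupOf.1 this

/-- If `T` is a `p`-subgroup of `M`, not maximal, some `p`-element of `M` outside `T` normalizes `T`. -/
theorem exists_of_not_maxP [Finite G] {p : ℕ} [Fact p.Prime] {T M : Subgroup G} (hTM : T ≤ M)
    (hT : IsPGroup p T) (h : ¬ MaxP p T M) :
    ∃ x ∈ M, x ∈ normalizer (T : Set G) ∧ x ∉ T ∧ IsPGroup p (T ⊔ zpowers x : Subgroup G) := by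
  have : ∃ R : Subgroup G, IsPGroup p R ∧ R ≤ M ∧ T ≤ R ∧ R ≠ T := by
    by_contra hcon
    push Not at hcon
    exact h ⟨hTM, hT, hcon⟩
  obtain ⟨R, hR, hRM, hTR, hne⟩ := this
  obtain ⟨x, hxR, hxN, hxT⟩ := exists_normalizer_notMem hR (lt_of_le_of_ne hTR (Ne.symm hne))
  exact ⟨x, hRM hxR, hxN, hxT, hR.to_le (sup_le hTR (zpowers_le.2 hxR))⟩

/-- `M` is a `p`-local subgroup. -/
def IsLoc (p : ℕ) (M : Subgroup G) : Prop :=
  ∃ T : Subgroup G, IsPGroup p T ∧ T ≠ ⊥ ∧ M = normalizer (T : Set G)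

/-- `M` is a maximal `p`-local subgroup. -/
def IsMaxLoc (p : ℕ) (M : Subgroup G) : Prop :=
  IsLoc p M ∧ ∀ L : Subgroup G, IsLoc p L → M ≤ L → L = M

theorem IsLoc.conj {p : ℕ} {M : Subgroup G} (h : IsLoc p M) (x : G) :
    IsLoc p (M.map (MulAut.conj x).toMonoidHom) := by
  obtain ⟨T, hT, hT1, rfl⟩ := h
  refine ⟨T.map (MulAut.conj x).toMonoidHom, hT.map _, ?_, map_equiv_normalizer_eq T (MulAut.conj x)⟩
  intro h0
  rw [Subgroup.map_eq_bot_iff_of_injective _ (MulAut.conj x).injective] at h0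
  exact hT1 h0

theorem map_conj_inv_map_conj (x : G) (K : Subgroup G) :
    (K.map (MulAut.conj x).toMonoidHom).map (MulAut.conj x⁻¹).toMonoidHom = K := by
  rw [Subgroup.map_map]
  have : (MulAut.conj x⁻¹).toMonoidHom.comp (MulAut.conj x).toMonoidHom = MonoidHom.id G := by
    ext y; simp [MulAut.conj_apply]; group
  rw [this, Subgroup.map_id]

theorem map_conj_map_conj_inv (x : G) (K : Subgroup G) :
    (K.map (MulAut.conj x⁻¹).toMonoidHom).map (MulAut.conj x).toMonoidHom = K := by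
  have := map_conj_inv_map_conj x⁻¹ K
  rwa [inv_inv] at this

theorem IsMaxLoc.conj {p : ℕ} {M : Subgroup G} (h : IsMaxLoc p M) (x : G) :
    IsMaxLoc p (M.map (MulAut.conj x).toMonoidHom) := by
  refine ⟨h.1.conj x, fun L hL hML => ?_⟩
  have h1 := h.2 _ (hL.conj x⁻¹) (by
    have := map_mono (f := (MulAut.conj x⁻¹).toMonoidHom) hML
    rwa [map_conj_inv_map_conj] at this)
  rw [← h1, map_conj_map_conj_inv]

theorem IsLoc.exists_le_isMaxLoc [Finite G] {p : ℕ} {L : Subgroup G} (h : IsLoc p L) :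
    ∃ M, IsMaxLoc p M ∧ L ≤ M := by
  have hfin : ({M : Subgroup G | IsLoc p M ∧ L ≤ M}).Finite := Set.toFinite _
  obtain ⟨M, hM⟩ := hfin.exists_maximal ⟨L, h, le_rfl⟩
  exact ⟨M, ⟨hM.prop.1, fun K hK hMK => (hM.eq_of_le ⟨hK, hM.prop.2.trans hMK⟩ hMK).symm⟩, hM.prop.2⟩

theorem IsLoc.Op_ne_bot {p : ℕ} {M : Subgroup G} (h : IsLoc p M) : Op p M ≠ ⊥ := by
  obtain ⟨T, hT, hT1, rfl⟩ := h
  intro h0
  have := le_Op (le_normalizer : T ≤ normalizer (T : Set G)) hT le_rfl
  rw [h0, le_bot_iff] at this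
  exact hT1 this

theorem IsMaxLoc.normalizer_Op {p : ℕ} {M : Subgroup G} (h : IsMaxLoc p M) :
    normalizer (Op p M : Set G) = M :=
  h.2 _ ⟨Op p M, Op_isPGroup p M, h.1.Op_ne_bot, rfl⟩
    (le_normalizer.trans (normalizer_le_normalizer_Op p M))

theorem IsMaxLoc.normalizer_le {p : ℕ} {M : Subgroup G} (h : IsMaxLoc p M) :
    normalizer (M : Set G) ≤ M :=
  (normalizer_le_normalizer_Op p M).trans h.normalizer_Op.le

/-- In a maximal `p`-local subgroup `M` of characteristic `p`, `N_G(A) = M` for `1 ≠ A ⊴ M`. -/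
theorem IsMaxLoc.normalizer_le_of_normal {p : ℕ} {M A : Subgroup G} (h : IsMaxLoc p M)
    (hc : M ⊓ centralizer (Op p M : Set G) ≤ Op p M) (hA : A ≠ ⊥) (hAM : A ≤ M)
    (hn : M ≤ normalizer (A : Set G)) : normalizer (A : Set G) ≤ M := by
  have hMO : M ≤ normalizer (Op p M : Set G) := le_normalizer.trans (normalizer_le_normalizer_Op p M)
  have hne : Op p A ≠ ⊥ := by
    intro h0
    have hR : A ⊓ Op p M ≤ Op p A := by
      apply le_Op inf_le_left ((Op_isPGroup p M).to_le inf_le_right)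
      exact (le_inf le_normalizer (hAM.trans hMO)).trans inf_normalizer_le_normalizer_inf
    rw [h0, le_bot_iff] at hR
    have h1 : ⁅A, Op p M⁆ ≤ A ⊓ Op p M := by
      apply le_inf
      · exact (le_normalizer_iff_commutator_le_left).1 ((H20.Op_le p M).trans hn)
      · rw [commutator_comm]
        exact (le_normalizer_iff_commutator_le_left).1 (hAM.trans hMO)
    rw [hR, le_bot_iff, commutator_eq_bot_iff_le_centralizer] at h1
    have h2 : A ≤ Op p M := (le_inf hAM h1).trans hc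
    apply hA
    rw [← le_bot_iff, ← hR]
    exact le_inf le_rfl h2
  have h1 := h.2 _ ⟨Op p A, Op_isPGroup p A, hne, rfl⟩ (hn.trans (normalizer_le_normalizer_Op p A))
  rw [← h1]
  exact normalizer_le_normalizer_Op p A

end Cfsg.Agent.H20
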