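import Mathlib
import Cfsg.Prelude.Def_Local
import Cfsg.Agent.H1.Hall

/-!
Hall `p'`-subgroups of `p`-soluble groups (helper20); the inductions follow `Cfsg.H1.hall_*_aux`.
-/

set_option autoImplicit false

namespace Cfsg.Agent.H20

open Subgroup Cfsg.H1
open scoped Pointwise

universe u

theorem relIndex_map_dvd {G G' : Type*} [Group G] [Group G'] (f : G →* G') {H K : Subgroup G} [H.Normal]
    (hHK : H ≤ K) : (H.map f).relIndex (K.map f) ∣ H.relIndex K := by
  rw [relIndex_map_map]
  have e : K ⊔ f.ker = K ⊔ (H ⊔ f.ker) := by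
    rw [← sup_assoc, sup_eq_left.2 hHK]
  rw [e, relIndex_sup_right]
  exact relIndex_dvd_of_le_left K le_sup_left

theorem isPSolvable_quotient {G : Type*} [Group G] {p : ℕ} (hp : p.Prime) (hs : Cfsg.IsPSolvable p G)
    (M : Subgroup G) [M.Normal] : Cfsg.IsPSolvable p (G ⧸ M) := by
  obtain ⟨n, H, h0, hn, hmono, hnorm, hstep⟩ := hs
  refine ⟨n, fun i => (H i).map (QuotientGroup.mk' M), ?_, ?_, ?_, ?_, ?_⟩
  · simp only [h0, Subgroup.map_bot]
  · simp only [hn]
    rw [← MonoidHom.range_eq_map, MonoidHom.range_eq_top]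
    exact QuotientGroup.mk'_surjective M
  · intro i j hij
    exact map_mono (hmono hij)
  · intro i
    exact (hnorm i).map _ (QuotientGroup.mk'_surjective M)
  · intro i
    have := hnorm i.castSucc
    have hd := relIndex_map_dvd (QuotientGroup.mk' M)
      (hmono (Fin.castSucc_le_succ i) : H i.castSucc ≤ H i.succ)
    rcases hstep i with ⟨m, hm⟩ | hc
    · left
      rw [hm] at hd
      obtain ⟨k, -, hk⟩ := (Nat.dvd_prime_pow hp).1 hd
      exact ⟨k, hk⟩
    · right
      exact Nat.Coprime.coprime_dvd_left hd hc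

theorem exists_normal_of_isPSolvable {G : Type*} [Group G] [Nontrivial G] {p : ℕ} [Fact p.Prime]
    (hs : Cfsg.IsPSolvable p G) :
    ∃ M : Subgroup G, M.Normal ∧ M ≠ ⊥ ∧ (IsPGroup p M ∨ (Nat.card M).Coprime p) := by
  obtain ⟨n, H, h0, hn, hmono, hnorm, hstep⟩ := hs
  have key : ∀ i : Fin (n + 1), H i = ⊥ ∨
      ∃ M : Subgroup G, M.Normal ∧ M ≠ ⊥ ∧ (IsPGroup p M ∨ (Nat.card M).Coprime p) := by
    intro i
    induction i using Fin.induction with
    | zero => exact Or.inl h0
    | succ i ih =>
      rcases ih with ih | ih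
      · by_cases hb : H i.succ = ⊥
        · exact Or.inl hb
        · right
          refine ⟨H i.succ, hnorm _, hb, ?_⟩
          have := hstep i
          rw [ih, relIndex_bot_left] at this
          rcases this with ⟨m, hm⟩ | hc
          · exact Or.inl (IsPGroup.of_card hm)
          · exact Or.inr hc
      · exact Or.inr ih
  rcases key (Fin.last n) with h | h
  · rw [hn] at h
    exact absurd h top_ne_bot
  · exact h

theorem psolv_reduction {G : Type u} [Group G] [Finite G] [Nontrivial G] {p : ℕ} [hp : Fact p.Prime]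
    (hs : Cfsg.IsPSolvable p G) {m n : ℕ} (hG : Nat.card G = m * n) (hm : m.Coprime p)
    (hn : ∃ k, n = p ^ k) :
    ∃ M : Subgroup G, M.Normal ∧ M ≠ ⊥ ∧
     ((IsPGroup p M ∧ (Nat.card M).Coprime m ∧ ∃ n', n = Nat.card M * n' ∧ Nat.card (G ⧸ M) = m * n' ∧
        ∃ k, n' = p ^ k) ∨
      ((Nat.card M).Coprime n ∧ ∃ m', m = Nat.card M * m' ∧ Nat.card (G ⧸ M) = m' * n ∧
        m'.Coprime p)) := by
  obtain ⟨M, hMn, hMbot, hM⟩ := exists_normal_of_isPSolvable hs
  refine ⟨M, hMn, hMbot, ?_⟩
  have hcard : Nat.card (G ⧸ M) * Nat.card M = m * n := by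
    rw [← hG]; exact (card_eq_card_quotient_mul_card_subgroup M).symm
  have hMdvd : Nat.card M ∣ m * n := Dvd.intro_left _ hcard
  obtain ⟨k, hk⟩ := hn
  rcases hM with hM | hM
  · left
    obtain ⟨j, hj⟩ := IsPGroup.iff_card.1 hM
    have hc : (Nat.card M).Coprime m := by rw [hj]; exact (Nat.Coprime.pow_right j hm).symm
    obtain ⟨n', hn'⟩ := hc.dvd_of_dvd_mul_left hMdvd
    refine ⟨hM, hc, n', hn', ?_, ?_⟩
    · apply Nat.eq_of_mul_eq_mul_right (Nat.card_pos (α := M))
      rw [hcard, hn']; ring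
    · have : n' ∣ p ^ k := by rw [← hk, hn']; exact Dvd.intro_left _ rfl
      obtain ⟨i, -, hi⟩ := (Nat.dvd_prime_pow hp.out).1 this
      exact ⟨i, hi⟩
  · right
    have hc : (Nat.card M).Coprime n := by rw [hk]; exact Nat.Coprime.pow_right k hM
    obtain ⟨m', hm'⟩ := hc.dvd_of_dvd_mul_right hMdvd
    refine ⟨hc, m', hm', ?_, hm.coprime_dvd_left ⟨Nat.card M, by rw [hm']; ring⟩⟩
    apply Nat.eq_of_mul_eq_mul_right (Nat.card_pos (α := M))
    rw [hcard, hm']; ring

theorem psolv_exists_aux {p : ℕ} [hp : Fact p.Prime] (N : ℕ) : ∀ (G : Type u) [Group G] [Finite G],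
    Cfsg.IsPSolvable p G →
    Nat.card G ≤ N → ∀ (m n : ℕ), Nat.card G = m * n → m.Coprime p → (∃ k, n = p ^ k) →
    ∃ H : Subgroup G, Nat.card H = m := by
  induction N with
  | zero =>
    intro G _ _ _ h
    exact absurd h (by have := Nat.card_pos (α := G); omega)
  | succ N ih =>
    intro G _ _ hs hN m n hG hm hn
    by_cases hG1 : Subsingleton G
    · have h1 : Nat.card G = 1 := Nat.card_eq_one_iff_unique.2 ⟨hG1, ⟨1⟩⟩
      rw [h1] at hG
      exact ⟨⊥, by rw [card_bot]; exact (Nat.eq_one_of_mul_eq_one_right hG.symm).symm⟩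
    · have : Nontrivial G := not_subsingleton_iff_nontrivial.1 hG1
      obtain ⟨M, hMn, hMbot, h⟩ := psolv_reduction hs hG hm hn
      have hQ : Nat.card (G ⧸ M) ≤ N := by have := card_quotient_lt hMbot; omega
      have hsQ := isPSolvable_quotient hp.out hs M
      rcases h with ⟨-, hc, n', hn', hQcard, hn''⟩ | ⟨hc, m', hm', hQcard, hmn'⟩
      · obtain ⟨H', hH'⟩ := ih (G ⧸ M) hsQ hQ m n' hQcard hm hn''
        obtain ⟨hML, hrel⟩ := relIndex_comap_mk' M H'
        obtain ⟨B, -, hB, -, -⟩ := sz_exists_internal hML le_normalizer_of_normal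
          (by rw [hrel, hH']; exact hc)
        exact ⟨B, by rw [hB, hrel, hH']⟩
      · obtain ⟨H', hH'⟩ := ih (G ⧸ M) hsQ hQ m' n hQcard hmn' hn
        exact ⟨H'.comap (QuotientGroup.mk' M), by rw [card_comap_mk', hH', hm']; ring⟩

theorem psolv_conj_aux {p : ℕ} [hp : Fact p.Prime] (N : ℕ) : ∀ (G : Type u) [Group G] [Finite G],
    Cfsg.IsPSolvable p G →
    Nat.card G ≤ N → ∀ (m n : ℕ), Nat.card G = m * n → m.Coprime p → (∃ k, n = p ^ k) →
    ∀ H K : Subgroup G, Nat.card H = m → Nat.card K = m → ∃ g : G, MulAut.conj g • H = K := by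
  induction N with
  | zero =>
    intro G _ _ _ h
    exact absurd h (by have := Nat.card_pos (α := G); omega)
  | succ N ih =>
    intro G _ _ hs hN m n hG hm hn H K hH hK
    have hmn : m.Coprime n := by
      obtain ⟨k, hk⟩ := hn
      rw [hk]; exact Nat.Coprime.pow_right k hm
    by_cases hG1 : Subsingleton G
    · exact ⟨1, Subsingleton.elim _ _⟩
    · have : Nontrivial G := not_subsingleton_iff_nontrivial.1 hG1
      obtain ⟨M, hMn, hMbot, h⟩ := psolv_reduction hs hG hm hn
      have hQ : Nat.card (G ⧸ M) ≤ N := by have := card_quotient_lt hMbot; omega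
      have hsQ := isPSolvable_quotient hp.out hs M
      rcases h with ⟨hMp, hc, n', hn', hQcard, hn''⟩ | ⟨hc, m', hm', hQcard, hmn'⟩
      · have dH : Disjoint H M := disjoint_of_coprime_natCard (by rw [hH]; exact hc.symm)
        have dK : Disjoint K M := disjoint_of_coprime_natCard (by rw [hK]; exact hc.symm)
        obtain ⟨q, hq⟩ := ih (G ⧸ M) hsQ hQ m n' hQcard hm hn'' (H.map (QuotientGroup.mk' M))
          (K.map (QuotientGroup.mk' M)) (by rw [card_map_mk'_of_disjoint dH, hH])
          (by rw [card_map_mk'_of_disjoint dK, hK])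
        obtain ⟨g, rfl⟩ := QuotientGroup.mk'_surjective M q
        have h1 := conj_sup_ker_of_map (QuotientGroup.mk' M) g hq
        rw [QuotientGroup.ker_mk'] at h1
        have hB : MulAut.conj g • H ≤ M ⊔ K := by rw [sup_comm, ← h1]; exact le_sup_left
        have hMsolv : Group.IsSolvable M := by
          have := hMp.isNilpotent
          infer_instance
        obtain ⟨k, hk, hkK⟩ := sz_conj_internal (A := K) (K := M) (B := MulAut.conj g • H)
          le_normalizer_of_normal (by rw [hK]; exact hc.symm) (Or.inr hMsolv) hB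
          (by rw [card_conj_smul, hH, hK])
        refine ⟨k⁻¹ * g, ?_⟩
        rw [conj_mul_smul, ← hkK, ← conj_mul_smul, inv_mul_cancel, map_one, one_smul]
      · have hle : ∀ C : Subgroup G, Nat.card C = m → M ≤ C := by
          intro C hC
          have h1 : Nat.card (C ⊔ M : Subgroup G) ∣ m := by
            have h2 := card_sup_dvd C M
            have h3 : (Nat.card (C ⊔ M : Subgroup G)).Coprime n :=
              Nat.Coprime.coprime_dvd_left h2 (Nat.Coprime.mul_left (hC ▸ hmn) hc)
            have h4 : Nat.card (C ⊔ M : Subgroup G) ∣ m * n := hG ▸ card_subgroup_dvd_card _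
            exact h3.dvd_of_dvd_mul_right h4
          have hmpos : 0 < m := hC ▸ Nat.card_pos
          have h5 : C = C ⊔ M :=
            eq_of_le_of_card_ge le_sup_left (by rw [hC]; exact Nat.le_of_dvd hmpos h1)
          rw [h5]; exact le_sup_right
        have cardmap : ∀ C : Subgroup G, Nat.card C = m →
            Nat.card (C.map (QuotientGroup.mk' M)) = m' := by
          intro C hC
          have := card_map_mk'_of_le (hle C hC)
          rw [hC, hm', mul_comm (Nat.card M)] at this
          exact Nat.eq_of_mul_eq_mul_right (Nat.card_pos (α := M)) this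
        obtain ⟨q, hq⟩ := ih (G ⧸ M) hsQ hQ m' n hQcard hmn' hn _ _ (cardmap H hH) (cardmap K hK)
        obtain ⟨g, rfl⟩ := QuotientGroup.mk'_surjective M q
        have h1 := conj_sup_ker_of_map (QuotientGroup.mk' M) g hq
        rw [QuotientGroup.ker_mk'] at h1
        refine ⟨g, ?_⟩
        have h2 : M ≤ MulAut.conj g • H := by
          rw [← Normal.conj_smul_eq_self g M]
          exact pointwise_smul_le_pointwise_smul_iff.2 (hle H hH)
        rwa [sup_eq_left.2 h2, sup_eq_left.2 (hle K hK)] at h1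

theorem psolv_dom_aux {p : ℕ} [hp : Fact p.Prime] (N : ℕ) : ∀ (G : Type u) [Group G] [Finite G],
    Cfsg.IsPSolvable p G →
    Nat.card G ≤ N → ∀ (m n : ℕ), Nat.card G = m * n → m.Coprime p → (∃ k, n = p ^ k) →
    ∀ K : Subgroup G, (Nat.card K).Coprime n → ∃ H : Subgroup G, Nat.card H = m ∧ K ≤ H := by
  induction N with
  | zero =>
    intro G _ _ _ h
    exact absurd h (by have := Nat.card_pos (α := G); omega)
  | succ N ih =>
    intro G _ _ hs hN m n hG hm hn K hK
    by_cases hG1 : Subsingleton G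
    · have h1 : Nat.card G = 1 := Nat.card_eq_one_iff_unique.2 ⟨hG1, ⟨1⟩⟩
      rw [h1] at hG
      exact ⟨⊤, by rw [card_top, h1]; exact (Nat.eq_one_of_mul_eq_one_right hG.symm).symm, le_top⟩
    · have : Nontrivial G := not_subsingleton_iff_nontrivial.1 hG1
      obtain ⟨M, hMn, hMbot, h⟩ := psolv_reduction hs hG hm hn
      have hQ : Nat.card (G ⧸ M) ≤ N := by have := card_quotient_lt hMbot; omega
      have hsQ := isPSolvable_quotient hp.out hs M
      rcases h with ⟨hMp, hc, n', hn', hQcard, hn''⟩ | ⟨hc, m', hm', hQcard, hmn'⟩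
      · have hKmap : (Nat.card (K.map (QuotientGroup.mk' M))).Coprime n' :=
          Nat.Coprime.coprime_dvd_left (card_map_dvd K _)
            (Nat.Coprime.coprime_dvd_right ⟨Nat.card M, by rw [hn']; ring⟩ hK)
        obtain ⟨H', hH', hKH'⟩ := ih (G ⧸ M) hsQ hQ m n' hQcard hm hn'' _ hKmap
        have hKL : K ≤ H'.comap (QuotientGroup.mk' M) := map_le_iff_le_comap.1 hKH'
        obtain ⟨hML, hrel⟩ := relIndex_comap_mk' M H'
        obtain ⟨B, hBL, hBcard, hBd, hBsup⟩ := sz_exists_internal hML le_normalizer_of_normal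
          (by rw [hrel, hH']; exact hc)
        have hsup : M ⊔ (M ⊔ K) ⊓ B = M ⊔ K := by
          apply le_antisymm (sup_le le_sup_left inf_le_left)
          apply sup_le le_sup_left
          intro x hx
          have hxL : x ∈ M ⊔ B := hBsup ▸ hKL hx
          rw [← SetLike.mem_coe, normal_mul] at hxL
          obtain ⟨u, hu, b, hb, rfl⟩ := Set.mem_mul.1 hxL
          refine mul_mem_sup hu ⟨?_, hb⟩
          have : b = u⁻¹ * (u * b) := by group
          rw [this]; exact mul_mem_sup (M.inv_mem hu) hx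
        have hcMK : (Nat.card K).Coprime (Nat.card M) :=
          Nat.Coprime.coprime_dvd_right ⟨n', hn'⟩ hK
        have dK : Disjoint M K := disjoint_of_coprime_natCard hcMK.symm
        have dK₂ : Disjoint M ((M ⊔ K) ⊓ B) := hBd.mono_right inf_le_right
        have hcardK₂ : Nat.card ((M ⊔ K) ⊓ B : Subgroup G) = Nat.card K := by
          have e1 := card_sup_of_disjoint (A := (M ⊔ K) ⊓ B) (K := M) le_normalizer_of_normal dK₂
          have e2 := card_sup_of_disjoint (A := K) (K := M) le_normalizer_of_normal dK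
          rw [hsup, e2] at e1
          exact (Nat.eq_of_mul_eq_mul_left Nat.card_pos e1).symm
        have hMsolv : Group.IsSolvable M := by
          have := hMp.isNilpotent
          infer_instance
        obtain ⟨u, hu, huK⟩ := sz_conj_internal (A := (M ⊔ K) ⊓ B) (K := M) (B := K)
          le_normalizer_of_normal (by rw [hcardK₂]; exact hcMK) (Or.inr hMsolv)
          (by rw [hsup]; exact le_sup_right) hcardK₂.symm
        refine ⟨MulAut.conj u • B, by rw [card_conj_smul, hBcard, hrel, hH'], ?_⟩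
        rw [← huK]; exact pointwise_smul_le_pointwise_smul_iff.2 inf_le_right
      · obtain ⟨H', hH', hKH'⟩ := ih (G ⧸ M) hsQ hQ m' n hQcard hmn' hn (K.map (QuotientGroup.mk' M))
          (Nat.Coprime.coprime_dvd_left (card_map_dvd K _) hK)
        exact ⟨H'.comap (QuotientGroup.mk' M), by rw [card_comap_mk', hH', hm']; ring,
          map_le_iff_le_comap.1 hKH'⟩

end Cfsg.Agent.H20
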