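import Cfsg.Agent.H20.PGroup
import Cfsg.Agent.Lib.Helper22.FittingSub

/-! Radicals: subnormal subgroups with a sup-closed conjugation-invariant property lie in a normal
subgroup with that property (helper20). -/

set_option autoImplicit false

namespace Cfsg.Agent.H20

open Subgroup

variable {G : Type*} [Group G]

/-- among the subgroups normalized by `H`, contained in `H`, and with property `Q`, there is a largest. -/
theorem exists_greatest_normal [Finite G] (Q : Subgroup G → Prop)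
    (hsup : ∀ M N : Subgroup G, Q M → Q N → M ≤ normalizer (N : Set G) → N ≤ normalizer (M : Set G) →
      Q (M ⊔ N))
    (H N₀ : Subgroup G) (h0 : N₀ ≤ H) (h0n : H ≤ normalizer (N₀ : Set G)) (h0Q : Q N₀) :
    ∃ M : Subgroup G, M ≤ H ∧ H ≤ normalizer (M : Set G) ∧ Q M ∧
      ∀ N : Subgroup G, N ≤ H → H ≤ normalizer (N : Set G) → Q N → N ≤ M := by
  classical
  let S : Set (Subgroup G) := {M | M ≤ H ∧ H ≤ normalizer (M : Set G) ∧ Q M}
  have hSfin : S.Finite := Set.toFinite _
  have hSne : S.Nonempty := ⟨N₀, h0, h0n, h0Q⟩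
  obtain ⟨M, hM, hmax⟩ := hSfin.exists_maximal hSne
  refine ⟨M, hM.1, hM.2.1, hM.2.2, ?_⟩
  intro N hN hNn hNQ
  have hmem : M ⊔ N ∈ S := by
    refine ⟨sup_le hM.1 hN, ?_, hsup M N hM.2.2 hNQ (hM.1.trans hNn) (hN.trans hM.2.1)⟩
    intro h hh
    rw [mem_normalizer_iff_conj]
    rw [Subgroup.map_sup]
    rw [(mem_normalizer_iff_conj _ _).1 (hM.2.1 hh), (mem_normalizer_iff_conj _ _).1 (hNn hh)]
  have := hmax hmem le_sup_left
  exact le_sup_right.trans this

theorem subnormal_le_normal_aux [Finite G] (Q : Subgroup G → Prop)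
    (hconj : ∀ (N : Subgroup G) (g : G), Q N → Q (N.map (MulAut.conj g).toMonoidHom))
    (hsup : ∀ M N : Subgroup G, Q M → Q N → M ≤ normalizer (N : Set G) → N ≤ normalizer (M : Set G) →
      Q (M ⊔ N))
    {K : Subgroup G} (hK : K.IsSubnormal) :
    ∀ N : Subgroup G, N ≤ K → K ≤ normalizer (N : Set G) → Q N →
      ∃ N' : Subgroup G, N'.Normal ∧ N ≤ N' ∧ Q N' := by
  induction hK with
  | top =>
    intro N _ hn hQ
    refine ⟨N, ?_, le_rfl, hQ⟩
    exact normalizer_eq_top_iff.1 (top_le_iff.1 hn)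
  | step H K hle hsub hN ih =>
    intro N hNH hNn hQ
    obtain ⟨M, hMH, hMn, hMQ, hgr⟩ := exists_greatest_normal Q hsup H N hNH hNn hQ
    have hHK : K ≤ normalizer (H : Set G) := (normal_subgroupOf_iff_le_normalizer hle).1 hN
    have key : ∀ k ∈ K, M.map (MulAut.conj k).toMonoidHom ≤ M := by
      intro k hk
      have hHk : H.map (MulAut.conj k).toMonoidHom = H := (mem_normalizer_iff_conj _ _).1 (hHK hk)
      apply hgr
      · rw [← hHk]; exact Subgroup.map_mono hMH
      · intro h hh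
        rw [mem_normalizer_iff_conj, ← sconj_mul]
        have h1 : k⁻¹ * h * k ∈ H := by
          have : h ∈ H.map (MulAut.conj k).toMonoidHom := hHk.symm ▸ hh
          exact (mem_conj_iff _ _ _).1 this
        have h2 := (mem_normalizer_iff_conj _ _).1 (hMn h1)
        have h3 : h * k = k * (k⁻¹ * h * k) := by group
        rw [h3, sconj_mul, h2]
      · exact hconj _ _ hMQ
    have hMK : K ≤ normalizer (M : Set G) := by
      intro k hk
      rw [mem_normalizer_iff_conj]
      apply le_antisymm (key k hk)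
      have := Subgroup.map_mono (f := (MulAut.conj k).toMonoidHom) (key k⁻¹ (K.inv_mem hk))
      rwa [sconj_conj_inv] at this
    obtain ⟨N', h1, h2, h3⟩ := ih M (hMH.trans hle) hMK hMQ
    exact ⟨N', h1, (hgr N hNH hNn hQ).trans h2, h3⟩

/-- A subnormal subgroup with a property `Q` which is conjugation invariant and closed under joins of
mutually normalizing subgroups lies in a normal subgroup with `Q`. -/
theorem subnormal_le_normal [Finite G] (Q : Subgroup G → Prop)
    (hconj : ∀ (N : Subgroup G) (g : G), Q N → Q (N.map (MulAut.conj g).toMonoidHom))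
    (hsup : ∀ M N : Subgroup G, Q M → Q N → M ≤ normalizer (N : Set G) → N ≤ normalizer (M : Set G) →
      Q (M ⊔ N))
    {A : Subgroup G} (hA : A.IsSubnormal) (hQ : Q A) :
    ∃ N' : Subgroup G, N'.Normal ∧ A ≤ N' ∧ Q N' :=
  subnormal_le_normal_aux Q hconj hsup hA A le_rfl le_normalizer hQ

theorem sup_rel (M N : Subgroup G) (h1 : M ≤ normalizer (N : Set G)) (h2 : N ≤ normalizer (M : Set G)) :
    (M.subgroupOf (M ⊔ N)).Normal ∧ (N.subgroupOf (M ⊔ N)).Normal ∧
      M.subgroupOf (M ⊔ N) ⊔ N.subgroupOf (M ⊔ N) = ⊤ := by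
  refine ⟨?_, ?_, ?_⟩
  · rw [normal_subgroupOf_iff_le_normalizer le_sup_left]
    exact sup_le le_normalizer h2
  · rw [normal_subgroupOf_iff_le_normalizer le_sup_right]
    exact sup_le h1 le_normalizer
  · rw [← subgroupOf_sup le_sup_left le_sup_right, subgroupOf_self]

theorem isNilpotent_sup_rel (M N : Subgroup G) (hM : Group.IsNilpotent M) (hN : Group.IsNilpotent N)
    (h1 : M ≤ normalizer (N : Set G)) (h2 : N ≤ normalizer (M : Set G)) :
    Group.IsNilpotent (M ⊔ N : Subgroup G) := by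
  obtain ⟨n1, n2, h3⟩ := sup_rel M N h1 h2
  have a1 : Group.IsNilpotent (M.subgroupOf (M ⊔ N)) :=
    Group.nilpotent_of_mulEquiv (subgroupOfEquivOfLe (le_sup_left : M ≤ M ⊔ N)).symm
  have a2 : Group.IsNilpotent (N.subgroupOf (M ⊔ N)) :=
    Group.nilpotent_of_mulEquiv (subgroupOfEquivOfLe (le_sup_right : N ≤ M ⊔ N)).symm
  have := Cfsg.Agent.Lib.Helper22.isNilpotent_sup (M.subgroupOf (M ⊔ N)) (N.subgroupOf (M ⊔ N)) a1 a2
  rw [h3] at this
  exact Group.nilpotent_of_mulEquiv topEquiv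

theorem card_sup_dvd_rel [Finite G] (M N : Subgroup G) (h2 : N ≤ normalizer (M : Set G)) :
    Nat.card (M ⊔ N : Subgroup G) ∣ Nat.card M * Nat.card N := by
  have n1 : (M.subgroupOf (M ⊔ N)).Normal := by
    rw [normal_subgroupOf_iff_le_normalizer le_sup_left]
    exact sup_le le_normalizer h2
  have h3 : N.subgroupOf (M ⊔ N) ⊔ M.subgroupOf (M ⊔ N) = ⊤ := by
    rw [← subgroupOf_sup le_sup_right le_sup_left, sup_comm, subgroupOf_self]
  have h4 := relIndex_sup_right (N.subgroupOf (M ⊔ N)) (M.subgroupOf (M ⊔ N))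
  rw [h3, relIndex_top_right] at h4
  have h5 := (M.subgroupOf (M ⊔ N)).card_mul_index
  rw [h4, card_subgroupOf, inf_eq_left.2 (le_sup_left : M ≤ M ⊔ N)] at h5
  rw [← h5]
  apply Nat.mul_dvd_mul_left
  have := relIndex_dvd_card (M.subgroupOf (M ⊔ N)) (N.subgroupOf (M ⊔ N))
  rwa [card_subgroupOf, inf_eq_left.2 (le_sup_right : N ≤ M ⊔ N)] at this

end Cfsg.Agent.H20
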