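import Mathlib
import Cfsg.Agent.H20.PGroup
import Cfsg.Agent.H1.CoprimeSylow
import Cfsg.Agent.H1.Basic

/-!
Consequences of Glauberman's Z*-theorem, stated with the theorem as an explicit hypothesis
(`ZStarStmt`), so that this file does not depend on its proof.
-/

set_option autoImplicit false
set_option linter.style.haveILetI false

namespace Cfsg.Agent.H20

universe u

/-- the statement of Glauberman's Z*-theorem (in the form of S0215) in universe `u` -/
def ZStarStmt : Prop :=
  ∀ {G : Type u} [Group G] [Finite G] (P : Sylow 2 G) (t : G), orderOf t = 2 → t ∈ P →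
    (∀ g : G, g * t * g⁻¹ ∈ P → g * t * g⁻¹ = t) →
    ∃ N : Subgroup G, N.Normal ∧ Odd (Nat.card N) ∧ ∀ g : G, (t * g * t⁻¹ * g⁻¹) ∈ N

section klein

variable {G : Type u} [Group G]

/-- the four-group generated by two commuting involutions -/
def fourSub (a b : G) (haa : a * a = 1) (hbb : b * b = 1) (hab : a * b = b * a) : Subgroup G where
  carrier := {x | x = 1 ∨ x = a ∨ x = b ∨ x = a * b}
  one_mem' := Or.inl rfl
  mul_mem' := by
    have haa' : ∀ x, a * (a * x) = x := fun x => by rw [← mul_assoc, haa, one_mul]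
    have hbb' : ∀ x, b * (b * x) = x := fun x => by rw [← mul_assoc, hbb, one_mul]
    have hba : b * a = a * b := hab.symm
    have hba' : ∀ x, b * (a * x) = a * (b * x) := fun x => by
      rw [← mul_assoc, hba, mul_assoc]
    rintro x y (rfl | rfl | rfl | rfl) (rfl | rfl | rfl | rfl) <;>
      simp [mul_assoc, haa, hbb, haa', hbb', hba, hba']
  inv_mem' := by
    have ha : a⁻¹ = a := inv_eq_of_mul_eq_one_left haa
    have hb : b⁻¹ = b := inv_eq_of_mul_eq_one_left hbb
    rintro x (rfl | rfl | rfl | rfl)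
    · simp
    · simp [ha]
    · simp [hb]
    · simp [ha, hb, hab]

theorem isKleinFour_fourSub (a b : G) (haa : a * a = 1) (hbb : b * b = 1) (hab : a * b = b * a)
    (ha1 : a ≠ 1) (hb1 : b ≠ 1) (hne : a ≠ b) : IsKleinFour ↥(fourSub a b haa hbb hab) := by
  have hcard : Nat.card ↥(fourSub a b haa hbb hab) = 4 := by
    have h1 : ((fourSub a b haa hbb hab : Subgroup G) : Set G) = {1, a, b, a * b} := by
      ext x; rfl
    have hab1 : a * b ≠ 1 := by
      intro h
      apply hne
      calc a = a * (b * b) := by rw [hbb, mul_one]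
        _ = (a * b) * b := by rw [mul_assoc]
        _ = b := by rw [h, one_mul]
    rw [← SetLike.coe_sort_coe, Nat.card_coe_set_eq, h1]
    rw [Set.ncard_insert_of_notMem, Set.ncard_insert_of_notMem, Set.ncard_insert_of_notMem,
      Set.ncard_singleton]
    · simp [hb1, ha1]
    · simp [hne, hb1]
    · simp [Ne.symm ha1, Ne.symm hb1, Ne.symm hab1]
  refine ⟨hcard, ?_⟩
  have h1 : Monoid.exponent ↥(fourSub a b haa hbb hab) ∣ 2 := by
    apply Monoid.exponent_dvd_of_forall_pow_eq_one
    rintro ⟨x, hx⟩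
    ext
    have haa' : ∀ x, a * (a * x) = x := fun x => by rw [← mul_assoc, haa, one_mul]
    have hba : b * a = a * b := hab.symm
    have hba' : ∀ x, b * (a * x) = a * (b * x) := fun x => by
      rw [← mul_assoc, hba, mul_assoc]
    rcases hx with rfl | rfl | rfl | rfl <;> simp [pow_two, haa, hbb, mul_assoc, hba', haa']
  rcases (Nat.dvd_prime Nat.prime_two).mp h1 with h2 | h2
  · have := Monoid.exp_eq_one_iff.mp h2
    have := Nat.card_eq_one_iff_unique.mpr ⟨this, ⟨1⟩⟩
    omega
  · exact h2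

end klein

section s0225

variable {G : Type u} [Group G] [Finite G]

theorem mul_self_of_orderOf_two {x : G} (h : orderOf x = 2) : x * x = 1 := by
  rw [← pow_two, ← h]; exact pow_orderOf_eq_one x

theorem ne_one_of_orderOf_two {x : G} (h : orderOf x = 2) : x ≠ 1 := by
  rintro rfl; rw [orderOf_one] at h; omega

theorem orderOf_conj' (g x : G) : orderOf (g * x * g⁻¹) = orderOf x := by
  have := (MulAut.conj g).orderOf_eq x
  simpa using this

/-- a Sylow `2`-subgroup of a group of even order has a central involution -/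
theorem exists_central_involution (heven : Even (Nat.card G)) (P : Sylow 2 G) :
    ∃ z : G, orderOf z = 2 ∧ z ∈ P ∧ ∀ x ∈ P, x * z = z * x := by
  haveI : Fact (Nat.Prime 2) := ⟨Nat.prime_two⟩
  have h2 : 2 ∣ Nat.card G := heven.two_dvd
  have hP2 : 2 ∣ Nat.card (P : Subgroup G) := by
    rw [P.card_eq_multiplicity]
    exact dvd_pow_self 2 (by
      have := (Nat.Prime.factorization_pos_of_dvd Nat.prime_two Nat.card_pos.ne' h2)
      omega)
  haveI : Nontrivial (P : Subgroup G) := by
    rw [← Finite.one_lt_card_iff_nontrivial]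
    exact lt_of_lt_of_le (by norm_num) (Nat.le_of_dvd Nat.card_pos hP2)
  haveI := P.isPGroup'.center_nontrivial
  have hc : 2 ∣ Nat.card (Subgroup.center (P : Subgroup G)) := by
    obtain ⟨n, hn⟩ := IsPGroup.iff_card.mp (P.isPGroup'.to_subgroup (Subgroup.center (P : Subgroup G)))
    rw [hn]
    apply dvd_pow_self
    rintro rfl
    have := Finite.one_lt_card_iff_nontrivial.mpr
      (inferInstance : Nontrivial (Subgroup.center (P : Subgroup G)))
    omega
  obtain ⟨z, hz⟩ := exists_prime_orderOf_dvd_card' 2 hc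
  refine ⟨((z : (P : Subgroup G)) : G), ?_, (z : (P : Subgroup G)).2, ?_⟩
  · rw [Subgroup.orderOf_coe, Subgroup.orderOf_coe]; exact hz
  · intro x hx
    have := Subgroup.mem_center_iff.mp z.2 ⟨x, hx⟩
    exact congrArg Subtype.val this

theorem s0225_core (hZ : ZStarStmt.{u}) (heven : Even (Nat.card G))
    (hrank : ∀ E : Subgroup G, ¬ IsKleinFour E) :
    ∃ z : G, orderOf z = 2 ∧ ∃ N : Subgroup G, N.Normal ∧ Odd (Nat.card N) ∧
      ∀ g : G, z * g * z⁻¹ * g⁻¹ ∈ N := by
  haveI : Fact (Nat.Prime 2) := ⟨Nat.prime_two⟩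
  let P : Sylow 2 G := default
  obtain ⟨z, hz, hzP, hzc⟩ := exists_central_involution heven P
  refine ⟨z, hz, hZ P z hz hzP ?_⟩
  intro g hg
  by_contra hne
  have ho : orderOf (g * z * g⁻¹) = 2 := by rw [orderOf_conj', hz]
  exact hrank _ (isKleinFour_fourSub (g * z * g⁻¹) z (mul_self_of_orderOf_two ho)
    (mul_self_of_orderOf_two hz) (hzc _ hg) (ne_one_of_orderOf_two ho)
    (ne_one_of_orderOf_two hz) hne)

end s0225

section s3184

variable {G : Type u} [Group G] [Finite G]

/-- a `p`-subgroup of `M`, where `M` contains the Sylow subgroup `P` of `G`, lies in an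
`M`-conjugate of `P` -/
theorem pgroup_le_conj_in {p : ℕ} [Fact p.Prime] {P : Sylow p G} {M R : Subgroup G}
    (hP : (P : Subgroup G) ≤ M) (hR : IsPGroup p R) (hRM : R ≤ M) :
    ∃ m ∈ M, R ≤ ((m • P : Sylow p G) : Subgroup G) := by
  have hR' : IsPGroup p (R.subgroupOf M) := hR.comap_of_injective _ M.subtype_injective
  obtain ⟨Q, hQ⟩ := hR'.exists_le_sylow
  obtain ⟨m, hm⟩ := MulAction.exists_smul_eq M (P.subtype hP) Q
  rw [Sylow.smul_subtype] at hm
  refine ⟨m, m.2, ?_⟩
  intro x hx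
  have h1 : (⟨x, hRM hx⟩ : M) ∈ R.subgroupOf M := Subgroup.mem_subgroupOf.2 hx
  have h2 := hQ h1
  rw [← hm] at h2
  exact h2

theorem isolated_of_CI
    (hCI : ∀ S T : Sylow 2 G, S ≠ T → ∃ U : Sylow 2 G,
      (S : Subgroup G) ⊓ (T : Subgroup G) ≤
        (Subgroup.center ↥(U : Subgroup G)).map (U : Subgroup G).subtype)
    (S : Sylow 2 G) (c : G) (hcS : c ∈ S)
    (hN : ∀ n ∈ Subgroup.normalizer ((S : Subgroup G) : Set G), n * c * n⁻¹ = c) :
    ∀ g : G, g * c * g⁻¹ ∈ S → g * c * g⁻¹ = c := by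
  haveI : Fact (Nat.Prime 2) := ⟨Nat.prime_two⟩
  have F3 : ∀ h h' : G, h • S = h' • S → h * c * h⁻¹ = h' * c * h'⁻¹ := by
    intro h h' e
    have h1 : (h'⁻¹ * h) • S = S := by rw [mul_smul, e, inv_smul_smul]
    have h2 := hN _ (Sylow.smul_eq_iff_mem_normalizer.1 h1)
    calc h * c * h⁻¹ = h' * ((h'⁻¹ * h) * c * (h'⁻¹ * h)⁻¹) * h'⁻¹ := by group
      _ = _ := by rw [h2]
  have hcen : ∀ y ∈ S, y * c = c * y := by
    intro y hy
    have := hN y (Subgroup.le_normalizer hy)
    calc y * c = (y * c * y⁻¹) * y := by group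
      _ = c * y := by rw [this]
  have F2 : ∀ h x : G, x ∈ (h • S : Sylow 2 G) → x * (h * c * h⁻¹) = (h * c * h⁻¹) * x := by
    intro h x hx
    have hx' : x ∈ (S : Subgroup G).map (MulAut.conj h).toMonoidHom := hx
    obtain ⟨y, hy, rfl⟩ := hx'
    simp only [MulEquiv.coe_toMonoidHom, MulAut.conj_apply]
    calc h * y * h⁻¹ * (h * c * h⁻¹) = h * (y * c) * h⁻¹ := by group
      _ = h * (c * y) * h⁻¹ := by rw [hcen y hy]
      _ = _ := by group
  have F4 : ∀ (h : G) (U : Sylow 2 G), (∀ x ∈ U, x * (h * c * h⁻¹) = (h * c * h⁻¹) * x) →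
      ∃ h' : G, U = h' • S ∧ h' * c * h'⁻¹ = h * c * h⁻¹ := by
    intro h U hU
    have h1 : ((h • S : Sylow 2 G) : Subgroup G) ≤ Subgroup.centralizer {h * c * h⁻¹} := by
      intro x hx
      exact Subgroup.mem_centralizer_singleton_iff.2 (F2 h x hx)
    have h2 : (U : Subgroup G) ≤ Subgroup.centralizer {h * c * h⁻¹} := by
      intro x hx
      exact Subgroup.mem_centralizer_singleton_iff.2 (hU x hx)
    obtain ⟨m, hm, hmU⟩ := sylow_conj_in h1 h2
    refine ⟨m * h, by rw [mul_smul, hmU], ?_⟩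
    have h3 := Subgroup.mem_centralizer_singleton_iff.1 hm
    calc m * h * c * (m * h)⁻¹ = (m * (h * c * h⁻¹)) * m⁻¹ := by group
      _ = _ := by rw [h3]; group
  intro g hg
  -- a Sylow subgroup `U'` of `C(d)` containing `c`
  have hcd : c ∈ Subgroup.centralizer {g * c * g⁻¹} :=
    Subgroup.mem_centralizer_singleton_iff.2 (hcen _ hg).symm
  have h1 : ((g • S : Sylow 2 G) : Subgroup G) ≤ Subgroup.centralizer {g * c * g⁻¹} := by
    intro x hx
    exact Subgroup.mem_centralizer_singleton_iff.2 (F2 g x hx)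
  have hz : IsPGroup 2 (Subgroup.zpowers c) :=
    S.2.to_le (by rw [Subgroup.zpowers_le]; exact hcS)
  obtain ⟨m, hm, hmc⟩ := pgroup_le_conj_in h1 hz (by rw [Subgroup.zpowers_le]; exact hcd)
  rw [← mul_smul] at hmc
  have hcU : c ∈ ((m * g) • S : Sylow 2 G) := hmc (Subgroup.mem_zpowers c)
  have hd : (m * g) * c * (m * g)⁻¹ = g * c * g⁻¹ := by
    have h3 := Subgroup.mem_centralizer_singleton_iff.1 hm
    calc m * g * c * (m * g)⁻¹ = (m * (g * c * g⁻¹)) * m⁻¹ := by group
      _ = _ := by rw [h3]; group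
  have hdU : g * c * g⁻¹ ∈ ((m * g) • S : Sylow 2 G) := by
    rw [← hd]
    exact ⟨c, hcS, rfl⟩
  by_cases hSU : S = (m * g) • S
  · have := F3 (m * g) 1 (by rw [one_smul]; exact hSU.symm)
    rw [hd] at this
    simpa using this
  · obtain ⟨U, hU⟩ := hCI S _ hSU
    have key : ∀ e : G, e ∈ S → e ∈ ((m * g) • S : Sylow 2 G) → ∀ x ∈ U, x * e = e * x := by
      intro e he1 he2 x hx
      obtain ⟨e', he', rfl⟩ := hU (Subgroup.mem_inf.2 ⟨he1, he2⟩)
      have := Subgroup.mem_center_iff.1 he' ⟨x, hx⟩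
      exact congrArg Subtype.val this
    obtain ⟨a, ha, ha'⟩ := F4 1 U (by simpa using key c hcS hcU)
    obtain ⟨b, hb, hb'⟩ := F4 g U (key _ hg hdU)
    have := F3 a b (ha.symm.trans hb)
    rw [ha', hb'] at this
    simpa using this.symm

theorem conj_fix_of_char_cyclic (S : Subgroup G) (C : Subgroup ↥S) (hCc : IsCyclic ↥C)
    (hCh : C.Characteristic) (c : ↥S) (hc : c ∈ C) (hc2 : orderOf c = 2) :
    ∀ n ∈ Subgroup.normalizer (S : Set G), n * (c : G) * n⁻¹ = c := by
  classical
  intro n hn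
  let φ : MulAut ↥S := S.normalizerMonoidHom ⟨n, hn⟩
  have h1 : φ c ∈ C := by
    have := Subgroup.characteristic_iff_map_eq.1 hCh φ
    rw [← this]
    exact Subgroup.mem_map_of_mem _ hc
  have h2 : orderOf (φ c) = 2 := by rw [φ.orderOf_eq, hc2]
  have h3 : φ c = c := by
    by_contra hne
    haveI : Fintype ↥C := Fintype.ofFinite _
    have h4 := IsCyclic.card_pow_eq_one_le (α := ↥C) (n := 2) (by norm_num)
    have e1 : c ^ 2 = 1 := by rw [← hc2]; exact pow_orderOf_eq_one _
    have e2 : (φ c) ^ 2 = 1 := by rw [← h2]; exact pow_orderOf_eq_one _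
    have h5 : ({1, ⟨c, hc⟩, ⟨φ c, h1⟩} : Finset ↥C) ⊆
        Finset.univ.filter (fun a : ↥C => a ^ 2 = 1) := by
      intro x hx
      simp only [Finset.mem_insert, Finset.mem_singleton] at hx
      simp only [Finset.mem_filter, Finset.mem_univ, true_and]
      rcases hx with rfl | rfl | rfl
      · simp
      · exact Subtype.ext (by simpa using e1)
      · exact Subtype.ext (by simpa using e2)
    have h6 : ({1, ⟨c, hc⟩, ⟨φ c, h1⟩} : Finset ↥C).card = 3 := by
      rw [Finset.card_insert_of_notMem, Finset.card_insert_of_notMem, Finset.card_singleton]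
      · simp only [Finset.mem_singleton, Subtype.mk.injEq]
        exact fun h => hne h.symm
      · simp only [Finset.mem_insert, Finset.mem_singleton, not_or]
        constructor
        · intro h
          have : c = 1 := congrArg Subtype.val h.symm
          rw [this, orderOf_one] at hc2; omega
        · intro h
          have : φ c = 1 := congrArg Subtype.val h.symm
          rw [this, orderOf_one] at h2; omega
    have := Finset.card_le_card h5
    omega
  have := congrArg Subtype.val h3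
  exact this

theorem s3184_isolated
    (hCI : ∀ S T : Sylow 2 G, S ≠ T → ∃ U : Sylow 2 G,
      (S : Subgroup G) ⊓ (T : Subgroup G) ≤
        (Subgroup.center ↥(U : Subgroup G)).map (U : Subgroup G).subtype)
    (S : Sylow 2 G) (C : Subgroup ↥(S : Subgroup G)) (hCc : IsCyclic ↥C)
    (hCh : C.Characteristic) (c : ↥(S : Subgroup G)) (hc : c ∈ C) (hc2 : orderOf c = 2) :
    ∀ g : G, g * (c : G) * g⁻¹ ∈ S → g * (c : G) * g⁻¹ = c :=
  isolated_of_CI hCI S c c.2 (conj_fix_of_char_cyclic _ C hCc hCh c hc hc2)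

end s3184

section s1618

variable {G : Type u} [Group G] [Finite G]

theorem s1618_core (hZ : ZStarStmt.{u}) (p : ℕ) (hp : p.Prime) (hodd : p ≠ 2) {D : Set G}
    (hinv : ∀ d ∈ D, orderOf d = 2) (hconj : ∃ d ∈ D, D = conjugatesOf d)
    (hgen : Subgroup.closure D = ⊤)
    (hprod : ∀ x ∈ D, ∀ y ∈ D, x ≠ y → ∃ k : ℕ, orderOf (x * y) = p ^ k) :
    Group.IsNilpotent ↥(commutator G) := by
  haveI : Fact (Nat.Prime 2) := ⟨Nat.prime_two⟩
  haveI : Fact p.Prime := ⟨hp⟩
  obtain ⟨d, hdD, rfl⟩ := hconj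
  have hd2 : orderOf d = 2 := hinv d hdD
  have hdd : d * d = 1 := mul_self_of_orderOf_two hd2
  have hdinv : d⁻¹ = d := inv_eq_of_mul_eq_one_left hdd
  have hD : ∀ g : G, g * d * g⁻¹ ∈ conjugatesOf d := fun g =>
    isConj_iff.2 ⟨g, rfl⟩
  -- products of coprime order are trivial
  have key : ∀ g : G, (orderOf (d * (g * d * g⁻¹))).Coprime p → g * d * g⁻¹ = d := by
    intro g hg
    by_contra hne
    obtain ⟨k, hk⟩ := hprod d hdD _ (hD g) (Ne.symm hne)
    rw [hk] at hg
    have hk0 : k = 0 := by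
      by_contra hk0
      have h1 : p ∣ p ^ k := dvd_pow_self p hk0
      have h2 := Nat.Coprime.eq_one_of_dvd hg.symm h1
      exact hp.one_lt.ne' h2
    rw [hk0, pow_zero, orderOf_eq_one_iff] at hk
    apply hne
    calc g * d * g⁻¹ = d * (d * (g * d * g⁻¹)) := by rw [← mul_assoc d d, hdd, one_mul]
      _ = d := by rw [hk, mul_one]
  have key' : ∀ (q : ℕ), q.Prime → q ≠ p → ∀ (R : Subgroup G), IsPGroup q R → ∀ g : G,
      d * (g * d * g⁻¹) ∈ R → g * d * g⁻¹ = d := by
    intro q hq hqp R hR g hg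
    apply key
    obtain ⟨k, hk⟩ := hR ⟨_, hg⟩
    have h1 : (d * (g * d * g⁻¹)) ^ q ^ k = 1 := congrArg Subtype.val hk
    exact Nat.Coprime.coprime_dvd_left (orderOf_dvd_of_pow_eq_one h1)
      (Nat.Coprime.pow_left k ((Nat.coprime_primes hq hp).2 hqp))
  -- `d` is isolated
  obtain ⟨P, hP⟩ := (IsPGroup.of_card (p := 2) (n := 1)
    (by rw [Nat.card_zpowers, hd2, pow_one]) : IsPGroup 2 (Subgroup.zpowers d)).exists_le_sylow
  have hdP : d ∈ P := hP (Subgroup.mem_zpowers d)
  obtain ⟨N, hNn, hNodd, hN⟩ := hZ P d hd2 hdP (fun g hg =>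
    key' 2 Nat.prime_two hodd.symm P P.2 g (mul_mem hdP hg))
  haveI := hNn
  set A : Subgroup G := Subgroup.zpowers d with hA
  have hAN : A ≤ Subgroup.normalizer (N : Set G) := by
    rw [Subgroup.normalizer_eq_top]; exact le_top
  have hcop : (Nat.card A).Coprime (Nat.card N) := by
    rw [hA, Nat.card_zpowers, hd2]
    exact (Nat.coprime_two_left).2 hNodd
  have hsol : Group.IsSolvable A ∨ Group.IsSolvable N := Or.inl inferInstance
  have hdA : d ∈ A := Subgroup.mem_zpowers d
  set C : Subgroup G := Subgroup.centralizer {d} with hC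
  -- invariant Sylow `q`-subgroups are centralised
  have hq : ∀ q : ℕ, q.Prime → q ≠ p → ¬ q ∣ (C.subgroupOf N).index := by
    intro q hq hqp
    haveI : Fact q.Prime := ⟨hq⟩
    obtain ⟨Q, hQ⟩ := (Cfsg.H1.coprime_sylow_aux A N hAN hcop hsol q).1
    have h1 : (Q : Subgroup N) ≤ C.subgroupOf N := by
      intro x hx
      rw [Subgroup.mem_subgroupOf, hC, Subgroup.mem_centralizer_singleton_iff]
      have hx' : (x : G) ∈ (Q : Subgroup N).map N.subtype := ⟨x, hx, rfl⟩
      have h2 : d * (x : G) * d⁻¹ ∈ (Q : Subgroup N).map N.subtype :=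
        (Subgroup.mem_normalizer_iff.1 (hQ hdA) _).1 hx'
      have h3 : d * ((x : G) * d * (x : G)⁻¹) ∈ (Q : Subgroup N).map N.subtype := by
        have : d * ((x : G) * d * (x : G)⁻¹) = (d * (x : G) * d⁻¹) * (x : G)⁻¹ := by
          rw [hdinv]; group
        rw [this]
        exact mul_mem h2 (inv_mem hx')
      have h4 := key' q hq hqp _ (Q.2.map _) _ h3
      calc (x : G) * d = ((x : G) * d * (x : G)⁻¹) * x := by group
        _ = d * x := by rw [h4]
    intro hdvd
    exact Q.not_dvd_index (hdvd.trans (Subgroup.index_dvd_of_le h1))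
  obtain ⟨P0, hP0⟩ := (Cfsg.H1.coprime_sylow_aux A N hAN hcop hsol p).1
  have hcopi : ((P0 : Subgroup N).index).Coprime (C.subgroupOf N).index := by
    apply Nat.coprime_of_dvd
    intro q hq' h1
    apply hq q hq'
    rintro rfl
    exact P0.not_dvd_index h1
  set R : Subgroup G := (P0 : Subgroup N).map N.subtype with hR
  have hRp : IsPGroup p R := P0.2.map _
  -- every conjugate of `d` lies in `R ⊔ A`
  have hsub : conjugatesOf d ⊆ ((R ⊔ A : Subgroup G) : Set G) := by
    intro y hy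
    obtain ⟨g, rfl⟩ := isConj_iff.1 (show IsConj d y from hy)
    -- `g d g⁻¹ = n d n⁻¹` with `n ∈ N`
    have hg : g ∈ N ⊔ A := by
      have h1 : Subgroup.closure (conjugatesOf d) ≤ N ⊔ A := by
        rw [Subgroup.closure_le]
        intro y hy
        obtain ⟨g, rfl⟩ := isConj_iff.1 (show IsConj d y from hy)
        have h2 : g * d * g⁻¹ = (d * g * d⁻¹ * g⁻¹)⁻¹ * d := by group
        rw [h2]
        exact mul_mem (Subgroup.mem_sup_left (inv_mem (hN g))) (Subgroup.mem_sup_right hdA)
      rw [hgen] at h1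
      exact h1 (Subgroup.mem_top g)
    obtain ⟨n, hn, a, ha, rfl⟩ := Subgroup.mem_sup_of_normal_left.1 hg
    obtain ⟨x, hx, c, hc, hxc⟩ := Cfsg.H1.exists_mul_of_coprime_index _ _ hcopi ⟨n, hn⟩
    have hn' : n = (x : G) * (c : G) := congrArg Subtype.val hxc
    have hcd : (c : G) * d = d * c := by
      rw [Subgroup.mem_subgroupOf, hC, Subgroup.mem_centralizer_singleton_iff] at hc
      exact hc
    have had : a * d = d * a := by
      obtain ⟨k, rfl⟩ := Subgroup.mem_zpowers_iff.1 ha
      exact ((Commute.refl d).zpow_left k).eq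
    have h5 : n * a * d * (n * a)⁻¹ = (x : G) * d * (x : G)⁻¹ := by
      calc n * a * d * (n * a)⁻¹ = n * (a * d) * a⁻¹ * n⁻¹ := by group
        _ = n * d * n⁻¹ := by rw [had]; group
        _ = (x : G) * ((c : G) * d) * (c : G)⁻¹ * (x : G)⁻¹ := by rw [hn']; group
        _ = _ := by rw [hcd]; group
    rw [h5]
    have hxR : (x : G) ∈ R := ⟨x, hx, rfl⟩
    exact mul_mem (mul_mem (Subgroup.mem_sup_left hxR) (Subgroup.mem_sup_right hdA))
      (inv_mem (Subgroup.mem_sup_left hxR))
  have htop : R ⊔ A = ⊤ := by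
    rw [eq_top_iff, ← hgen, Subgroup.closure_le]
    exact hsub
  have hRn : R.Normal := by
    rw [← Subgroup.normalizer_eq_top_iff, eq_top_iff, ← htop]
    exact sup_le Subgroup.le_normalizer hP0
  have hle : commutator G ≤ R := by
    have hsurj : Function.Surjective ((QuotientGroup.mk' R).comp A.subtype) := by
      intro y
      obtain ⟨g, rfl⟩ := QuotientGroup.mk'_surjective R y
      have hg : g ∈ R ⊔ A := htop ▸ Subgroup.mem_top g
      obtain ⟨r, hr, a, ha, rfl⟩ := Subgroup.mem_sup_of_normal_left.1 hg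
      refine ⟨⟨a, ha⟩, ?_⟩
      simp only [MonoidHom.comp_apply, Subgroup.subtype_apply, QuotientGroup.mk'_apply]
      rw [QuotientGroup.eq]
      have : a⁻¹ * (r * a) = a⁻¹ * r * a⁻¹⁻¹ := by group
      rw [this]
      exact hRn.conj_mem r hr a⁻¹
    haveI : IsCyclic (G ⧸ R) := isCyclic_of_surjective _ hsurj
    rw [commutator_def, Subgroup.commutator_le]
    intro g₁ _ g₂ _
    rw [← QuotientGroup.eq_one_iff, commutatorElement_def]
    simp only [QuotientGroup.mk_mul, QuotientGroup.mk_inv]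
    have := (IsCyclic.commutative (α := G ⧸ R)).is_comm.comm (g₁ : G ⧸ R) (g₂ : G ⧸ R)
    rw [this]; group
  exact (hRp.to_le hle).isNilpotent

end s1618

end Cfsg.Agent.H20
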